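import Cfsg.Agent.Lib.Spor.Co2Invol.Hom
import Cfsg.Agent.Lib.Spor.Co0Config
import Cfsg.Agent.Lib.Spor.Co1Simple
import Cfsg.Agent.Lib.Spor.OctadFix
import Cfsg.Agent.Lib.Classical.SympOrder

/-!
The order of the centraliser: the kernel has order `512`, and the map onto `Sp₆(2)` is onto.
-/

set_option autoImplicit false
set_option Elab.async false
set_option maxRecDepth 100000
set_option maxHeartbeats 0

namespace CfsgLib.Spor.Co2Invol

open Cfsg
open CfsgLib.Spor
open CfsgLib.Spor.Config
open CfsgLib.Spor.ShortPairs (v0)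
open CfsgLib.ThreeTransp.CoReduce (bigE)
open scoped symmDiff Pointwise

/-! ### Generators -/

/-- generators fixing 0 vectors of the base -/
def lev0Gens : List (List Stp) := [
  [.mono 963710150671740979947269416309406240 8018316],
  [.mono 984811896368526027902876845265194432 7275194],
  [.mono 967481876578747339774447742497526880 7693232],
  [.mono 17532450978730067604097952423908439 5409412],
  [.mono 235702408682545657018476371348848759 16569195, .xi, .mono 54056913558093799239444033213384133 2702848, .xi, .mono 718184252096960795940085769663091715 3915467]]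

/-- walk with 126 points: base, length, digits -/
def lev0Walk : ℕ × ℕ × ℕ := (6, 250, 0x8513a58821c7b16808e19afbf725f1fd2e70278f23a66242a5b8a7a93083347e2dcf9ed50d529d0b98e8f6e81a9bee4be43f13498bbc32c94e25d414b8b26374cd28c2df57ba707367475a4e0fb3590)

/-- generators fixing 1 vectors of the base -/
def lev1Gens : List (List Stp) := [
  [.mono 15197247922089938708855225321568823 2575820],
  [.mono 9748761932906915157036406759589943 2702848],
  [.mono 21103473547027903090876486883260471 6280668],
  [.mono 971146226774103804028557674093328544 7536302],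
  [.mono 57489959848966689488993682369547342 13006380, .xi, .mono 593476475534800416997218374537414181 3175326]]

/-- walk with 32 points: base, length, digits -/
def lev1Walk : ℕ × ℕ × ℕ := (6, 62, 0x53c24c1737ccf6f2914e52c21fcf2b585600e5b)

/-- generators fixing 2 vectors of the base -/
def lev2Gens : List (List Stp) := [
  [.mono 966182099583441531322624363496310816 7674098],
  [.mono 969022054889801156739641105425992224 7409024],
  [.mono 972645942374600693938525519133903392 1752752],
  [.mono 25155681936269774866435699955042871 5538256],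
  [.mono 712095642508176414242593926522461185 16469621, .xi, .mono 103369712786719561958751210856105409 7497719]]

/-- walk with 15 points: base, length, digits -/
def lev2Walk : ℕ × ℕ × ℕ := (6, 28, 0x10843141e5fba2ddb)

/-- generators fixing 3 vectors of the base -/
def lev3Gens : List (List Stp) := [
  [.mono 23621017567194357195025328048802359 5280930],
  [.mono 28177506102983596761146002278287415 6391794],
  [.mono 10810907050661787892492846053296183 5640752],
  [.mono 970579513279871794596215829739702432 1646562]]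

/-- walk with 12 points: base, length, digits -/
def lev3Walk : ℕ × ℕ × ℕ := (5, 22, 0x15d155ba10ed2)

/-- generators fixing 4 vectors of the base -/
def lev4Gens : List (List Stp) := [
  [.mono 966182099583441531322624363496310816 4819776],
  [.mono 971592882964418941354553515258775584 3421328],
  [.mono 17141467504298925520636985613584439 7780768],
  [.mono 981818691054096003685363657089320992 6100032]]

/-- walk with 2 points: base, length, digits -/
def lev4Walk : ℕ × ℕ × ℕ := (5, 2, 0x3)

/-! ### The kernel -/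

theorem supp_bigE {p : GolayPt} (hp : inO p = true) : Supp (bigE p) := fun q hq => by
  rw [bigE_coe, Pi.single_apply, if_neg]
  rintro rfl
  rw [hp] at hq
  exact Bool.noConfusion hq

/-- An element moving each standard vector within its side commutes with the involution. -/
theorem commute_of_side {g : Co0}
    (h : ∀ p q, inO q ≠ inO p → ((g • bigE p : leechLattice) : GolayPt → ℤ) q = 0) :
    tEl * g = g * tEl := by
  refine co0_ext fun p => ?_
  rw [mul_smul, mul_smul]
  cases hp : inO p with
  | true => 
    rw [supp_iff.1 (supp_bigE hp)]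
    exact supp_iff.1 fun q hq => h p q (by rw [hp, hq]; decide)
  | false =>
    have e : tEl • bigE p = -bigE p := by
      refine Subtype.ext (funext fun q => ?_)
      rw [tEl_apply, NegMemClass.coe_neg, Pi.neg_apply, bigE_coe, Pi.single_apply]
      by_cases hq : q = p
      · subst hq; simp [hp]
      · simp [hq]
    rw [e, smul_neg_co0]
    refine Subtype.ext (funext fun q => ?_)
    rw [tEl_apply, NegMemClass.coe_neg, Pi.neg_apply]
    split
    · rename_i hq
      rw [h p q (by rw [hp, hq]; decide), neg_zero]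
    · rfl

/-- fixes the octad pointwise -/
abbrev FixO (σ : Equiv.Perm GolayPt) : Prop := ∀ p, inO p = true → σ p = p

theorem FixO.inO_apply {σ : Equiv.Perm GolayPt} (h : FixO σ) (p : GolayPt) :
    inO (σ p) = inO p := by
  cases hp : inO p with
  | true => rw [h p hp, hp]
  | false =>
    cases hq : inO (σ p) with
    | false => rfl
    | true => rw [σ.injective (h _ hq), hp] at hq; exact Bool.noConfusion hq

theorem mono_mem_octFix {m : MonoIdx} (hσ : FixO (m.1 : Equiv.Perm GolayPt))
    (hc : ∀ p, p ∈ (m.2 : Finset GolayPt) → inO p = false) : monoEl m ∈ octFix := by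
  have hfix : ∀ v, Supp v → monoEl m • v = v := fun v hv => by
    refine Subtype.ext (funext fun q => ?_)
    rw [monoEl_smul]
    show (if q ∈ (m.2 : Finset GolayPt) then -(v : GolayPt → ℤ) ((m.1 : Equiv.Perm GolayPt).symm q)
      else (v : GolayPt → ℤ) ((m.1 : Equiv.Perm GolayPt).symm q)) = _
    have hin := hσ.inO_apply ((m.1 : Equiv.Perm GolayPt).symm q)
    rw [Equiv.apply_symm_apply] at hin
    cases hq : inO q with
    | true =>
      rw [if_neg (fun hm => by rw [hc q hm] at hq; exact Bool.noConfusion hq),
        (Equiv.symm_apply_eq _).2 (hσ q hq).symm]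
    | false => rw [hv q hq, hv _ (by rw [← hin, hq])]; simp
  refine ⟨mem_ct.2 ⟨hfix _ v0_supp, commute_of_side fun p q hpq => ?_⟩,
    (mem_fixingSubgroup_iff _).2 ?_⟩
  · rw [monoEl_smul, bigE_coe, signedPerm_single, Pi.single_apply, if_neg]
    rintro rfl
    exact hpq (hσ.inO_apply p)
  · rintro _ ⟨p, hp, rfl⟩
    exact hfix _ (supp_bigE hp)

theorem exists_mono_of_octFix {g : Co0} (hg : g ∈ octFix) :
    ∃ m : MonoIdx, monoEl m = g ∧ FixO (m.1 : Equiv.Perm GolayPt) ∧
      ∀ p, p ∈ (m.2 : Finset GolayPt) → inO p = false := by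
  obtain ⟨m, hm⟩ := exists_monoEl (g := g) (by
    rw [show eTop = bigE none from rfl, fix_bigE hg inO_none.1]; exact bigE_mem_stdCross _)
  have hp : ∀ p, inO p = true →
      (m.1 : Equiv.Perm GolayPt) p = p ∧ p ∉ (m.2 : Finset GolayPt) := by
    intro p hp
    have h := congrArg Subtype.val (fix_bigE hg hp)
    rw [← hm, monoEl_smul] at h
    have h1 := single_target (b := 8) (by norm_num) h
    rw [bigE_coe, signedPerm_single, h1] at h
    refine ⟨h1, fun hc => ?_⟩
    have := congrFun h p
    simp [hc] at this
  refine ⟨m, hm, fun p h => (hp p h).1, fun p h => ?_⟩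
  cases hq : inO p with
  | false => rfl
  | true => exact absurd h (hp p hq).2

theorem outWords_spec : (outWords.all fun m => decide (m ∈ codeList) && Nat.beq (m &&& oct) 0) = true ∧
    (codeList.all fun m => !Nat.beq (m &&& oct) 0 || outWords.any fun w => Nat.beq w m) = true ∧
    ascending outWords = true ∧ outWords.length = 32 := by decide +kernel

theorem natCard_outSets : Nat.card {c : ↥(supports (golayCode : Set (GolayPt → ZMod 2))) //
    ∀ p, p ∈ (c : Finset GolayPt) → inO p = false} = 32 := by
  obtain ⟨h1, h2, h3, h4⟩ := outWords_spec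
  simp only [List.all_eq_true, Bool.and_eq_true, decide_eq_true_eq, Nat.beq_eq, Bool.or_eq_true,
    Bool.not_eq_true', List.any_eq_true] at h1 h2
  have hout : ∀ m : ℕ, m &&& oct = 0 → ∀ p, p ∈ toSet m → inO p = false := by
    intro m hm p hp
    have h := congrArg (fun x => Nat.testBit x (idx p)) hm
    simp only [Nat.testBit_and, mem_toSet.1 hp, Bool.true_and, Nat.zero_testBit] at h
    exact h
  let f : Fin outWords.length → {c : ↥(supports (golayCode : Set (GolayPt → ZMod 2))) //
      ∀ p, p ∈ (c : Finset GolayPt) → inO p = false} := fun i =>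
    ⟨⟨toSet outWords[i.val], toSet_mem_supports (h1 _ (List.getElem_mem i.2)).1⟩,
      hout _ (h1 _ (List.getElem_mem i.2)).2⟩
  rw [← h4, ← Nat.card_fin outWords.length]
  refine (Nat.card_congr (Equiv.ofBijective f ⟨fun i j hij => ?_, fun c => ?_⟩)).symm
  · have e := congrArg (fun c => mask c) (congrArg (fun x => ((x.1 : ↥(supports
      (golayCode : Set (GolayPt → ZMod 2)))) : Finset GolayPt)) hij)
    simp only [f] at e
    rw [mask_toSet (lt_of_mem_codeList (h1 _ (List.getElem_mem i.2)).1),
      mask_toSet (lt_of_mem_codeList (h1 _ (List.getElem_mem j.2)).1)] at e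
    exact Fin.ext ((nodup_of_ascending h3).getElem_inj_iff.1 e)
  · have hm := mem_supports_iff.1 c.1.2
    have hand : mask (c.1 : Finset GolayPt) &&& oct = 0 := by
      refine Nat.eq_of_testBit_eq fun q => ?_
      rw [Nat.testBit_and, Nat.zero_testBit]
      by_contra hcon
      simp only [Bool.not_eq_false, Bool.and_eq_true] at hcon
      have hq : q < 24 := by
        by_contra hq
        rw [Nat.testBit_lt_two_pow (lt_of_lt_of_le (mask_lt _)
          (Nat.pow_le_pow_right (by norm_num) (le_of_not_gt hq)))] at hcon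
        exact Bool.noConfusion hcon.1
      have h := c.2 (pt q) (by rw [← toSet_mask (c.1 : Finset GolayPt), mem_toSet, idx_pt hq]
                               exact hcon.1)
      rw [inO, idx_pt hq, hcon.2] at h
      exact Bool.noConfusion h
    rcases h2 _ hm with h | ⟨w, hw, hwe⟩
    · rw [hand] at h; exact Bool.noConfusion h
    · obtain ⟨i, hi, rfl⟩ := List.getElem_of_mem hw
      refine ⟨⟨i, hi⟩, Subtype.ext (Subtype.ext ?_)⟩
      show toSet outWords[i] = _
      rw [hwe, toSet_mask]

theorem toSet_oct_octad : toSet oct ∈ octads := by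
  rw [mem_octads, mask_toSet (by norm_num [oct])]
  exact oct_facts.1

theorem natCard_fixO : Nat.card {σ : ↥M24 // FixO (σ : Equiv.Perm GolayPt)} = 16 := by
  rw [← (octad_pointwise_stabilizer toSet_oct_octad).1]
  refine Nat.card_congr
    { toFun := fun σ => ⟨σ.1.1, Subgroup.mem_inf.2 ⟨σ.1.2, (mem_fixingSubgroup_iff _).2
        fun p hp => σ.2 p (mem_toSet.1 (Finset.mem_coe.1 hp))⟩⟩
      invFun := fun σ => ⟨⟨σ.1, (Subgroup.mem_inf.1 σ.2).1⟩, fun p hp =>
        (mem_fixingSubgroup_iff _).1 (Subgroup.mem_inf.1 σ.2).2 p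
          (Finset.mem_coe.2 (mem_toSet.2 hp))⟩
      left_inv := fun σ => rfl
      right_inv := fun σ => rfl }

theorem natCard_octFix : Nat.card ↥octFix = 512 := by
  rw [show (512 : ℕ) = 16 * 32 from rfl, ← natCard_fixO, ← natCard_outSets, ← Nat.card_prod]
  symm
  refine Nat.card_congr (Equiv.ofBijective
    (fun x => ⟨monoEl (x.1.1, x.2.1), mono_mem_octFix x.1.2 x.2.2⟩) ⟨fun x y h => ?_, fun g => ?_⟩)
  · have e := monoEl_injective (congrArg Subtype.val h)
    simp only [Prod.mk.injEq] at e
    exact Prod.ext (Subtype.ext e.1) (Subtype.ext e.2)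
  · obtain ⟨m, hm, h1, h2⟩ := exists_mono_of_octFix g.2
    exact ⟨(⟨m.1, h1⟩, ⟨m.2, h2⟩), Subtype.ext hm⟩

/-! ### The stabiliser chain -/

/-- the elements of `ct` fixing the first vectors of the base -/
def fixTo (k : ℕ) : Subgroup Co0 :=
  ct ⊓ fixingSubgroup Co0 {v | ∃ j : Fin 7, j.val < k ∧ v = bv j}

theorem mem_fixTo {k : ℕ} {g : Co0} :
    g ∈ fixTo k ↔ g ∈ ct ∧ ∀ j : Fin 7, j.val < k → g • bv j = bv j := by
  rw [fixTo, Subgroup.mem_inf, mem_fixingSubgroup_iff]
  refine and_congr_right fun _ => ⟨fun h j hj => h _ ⟨j, hj, rfl⟩, ?_⟩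
  rintro h _ ⟨j, hj, rfl⟩
  exact h j hj

theorem fixTo_zero : fixTo 0 = ct := by
  ext g
  simp [mem_fixTo]

theorem fixTo_succ (k : Fin 7) :
    fixTo (k.val + 1) = fixTo k.val ⊓ MulAction.stabilizer Co0 (bv k) := by
  ext g
  simp only [Subgroup.mem_inf, mem_fixTo, MulAction.mem_stabilizer_iff]
  constructor
  · exact fun h => ⟨⟨h.1, fun j hj => h.2 j (by omega)⟩, h.2 k (by omega)⟩
  · rintro ⟨⟨h1, h2⟩, h3⟩
    refine ⟨h1, fun j hj => ?_⟩
    rcases Nat.lt_succ_iff_lt_or_eq.1 hj with hj | hj
    · exact h2 j hj
    · rw [Fin.ext hj]; exact h3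

/-- coordinates of `8 eᵢ` -/
def bigL8 (i : ℕ) : List ℤ := (List.range 24).map fun j => if j = i then 8 else 0

theorem lOf_bigE : ∀ p : GolayPt, lOf ((bigE p : leechLattice) : GolayPt → ℤ) = bigL8 (idx p) := by
  decide +kernel

/-- the programs keep the sides of the octad -/
def sideB (gs : List (List Stp)) : Bool :=
  gs.all fun P => (List.range 24).all fun i => (runP P (bigL8 i)).zipIdx.all fun x =>
    (oct.testBit x.2 == oct.testBit i) || decide (x.1 = 0)

theorem gens_fixTo {gs : List (List Stp)} {k : ℕ}
    (h : fixesB gs (lOf (v0 : GolayPt → ℤ) :: baseL.take k) = true) (hs : sideB gs = true) :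
    Gens (fixTo k) gs := by
  refine ⟨fun P hP => ?_⟩
  obtain ⟨hok, g, hg, hfix⟩ := exists_gen_of_fixesB h hP
  refine ⟨hok, g, mem_fixTo.2 ⟨mem_ct.2 ⟨hfix _ List.mem_cons_self, commute_of_side fun p q hpq => ?_⟩,
    fun j hj => hfix _ (List.mem_cons_of_mem _ ?_)⟩, hg⟩
  · have hs' := List.all_eq_true.1 (List.all_eq_true.1 hs P hP) (idx p)
      (List.mem_range.2 (idx_lt p))
    rw [← lOf_bigE, ← hg] at hs'
    have hx := List.all_eq_true.1 hs' (((g • bigE p : leechLattice) : GolayPt → ℤ) q, idx q) (by
      rw [List.mem_zipIdx_iff_getElem?, lOf, List.getElem?_map, List.getElem?_range (idx_lt q)]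
      simp [pt_idx])
    rw [Bool.or_eq_true, beq_iff_eq, decide_eq_true_eq] at hx
    exact hx.resolve_left hpq
  · rw [lOf_bv]
    have hlen : j.val < baseL.length := by
      have := j.isLt
      simp only [baseL, List.length_cons, List.length_nil]
      omega
    rw [List.getD_eq_getElem _ _ hlen]
    exact List.mem_take_iff_getElem.2 ⟨j.val, by omega, rfl⟩

theorem step_le (k : Fin 7) {gs : List (List Stp)} {w : ℕ × ℕ × ℕ} {N : ℕ}
    (h : fixesB gs (lOf (v0 : GolayPt → ℤ) :: baseL.take k.val) = true) (hs : sideB gs = true)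
    (hw : walkOK gs w (baseL.getD k.val []) N = true) :
    Nat.card ↥(fixTo (k.val + 1)) * N ≤ Nat.card ↥(fixTo k.val) := by
  rw [fixTo_succ, ← ConwayArith.natCard_inf_stab (K := fixTo k.val) (bv k)]
  exact Nat.mul_le_mul_left _ ((gens_fixTo h hs).le_orbit (lOf_bv k)
    (le_of_eq_of_le (root_bv k).1 (by norm_num)) hw)

theorem step0 : Nat.card ↥(fixTo 1) * 126 ≤ Nat.card ↥(fixTo 0) :=
  step_le (0 : Fin 7) (gs := lev0Gens) (w := lev0Walk) (by decide +kernel) (by decide +kernel)
    (by decide +kernel)

theorem step1 : Nat.card ↥(fixTo 2) * 32 ≤ Nat.card ↥(fixTo 1) :=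
  step_le (1 : Fin 7) (gs := lev1Gens) (w := lev1Walk) (by decide +kernel) (by decide +kernel)
    (by decide +kernel)

theorem step2 : Nat.card ↥(fixTo 3) * 15 ≤ Nat.card ↥(fixTo 2) :=
  step_le (2 : Fin 7) (gs := lev2Gens) (w := lev2Walk) (by decide +kernel) (by decide +kernel)
    (by decide +kernel)

theorem step3 : Nat.card ↥(fixTo 4) * 12 ≤ Nat.card ↥(fixTo 3) :=
  step_le (3 : Fin 7) (gs := lev3Gens) (w := lev3Walk) (by decide +kernel) (by decide +kernel)
    (by decide +kernel)

theorem step4 : Nat.card ↥(fixTo 5) * 2 ≤ Nat.card ↥(fixTo 4) :=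
  step_le (4 : Fin 7) (gs := lev4Gens) (w := lev4Walk) (by decide +kernel) (by decide +kernel)
    (by decide +kernel)

theorem le_card_ct : 512 * 1451520 ≤ Nat.card ↥ct := by
  have h5 : 512 ≤ Nat.card ↥(fixTo 5) := by
    rw [← natCard_octFix]
    exact Subgroup.card_le_of_le fun g hg =>
      mem_fixTo.2 ⟨hg.1, fun j _ => octFix_fix_supp hg (root_bv j).2.2⟩
  have h0 := step0
  rw [fixTo_zero] at h0
  have := step1; have := step2; have := step3; have := step4
  omega

theorem natCard_sp : Nat.card ↥(Matrix.symplecticGroup (Fin 3) (ZMod 2)) = 1451520 := by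
  rw [CfsgLib.Classical.card_symplecticGroup, Nat.card_zmod, Fintype.card_fin]
  rfl

theorem natCard_ker : Nat.card ↥phi.ker = 512 := by
  rw [← natCard_octFix]
  exact Nat.card_congr
    { toFun := fun g => ⟨g.1.1, ker_le g.2⟩
      invFun := fun g => ⟨⟨g.1, g.2.1⟩, (mem_ker_iff _).2 g.2⟩
      left_inv := fun g => rfl
      right_inv := fun g => rfl }

theorem phi_surjective : Function.Surjective phi := by
  have hprod := Subgroup.card_mul_index phi.ker
  rw [Subgroup.index_ker, natCard_ker] at hprod
  have hle := le_card_ct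
  rw [← MonoidHom.range_eq_top]
  refine Subgroup.eq_top_of_le_card _ ?_
  rw [natCard_sp]
  omega

theorem natCard_ct : Nat.card ↥ct = 512 * 1451520 := by
  have hprod := Subgroup.card_mul_index phi.ker
  rw [Subgroup.index_ker, natCard_ker, MonoidHom.range_eq_top.2 phi_surjective,
    Subgroup.card_top, natCard_sp] at hprod
  exact hprod.symm

end CfsgLib.Spor.Co2Invol
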