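import Cfsg.Agent.Lib.Spor.Co2Invol.Card
import Cfsg.Agent.Lib.ThreeTransp.LargeQuotient
import Cfsg.Agent.Lib.Base.Cores

/-!
The largest normal 2-subgroup of the centraliser is the kernel, an extraspecial group.
-/

set_option autoImplicit false
set_option Elab.async false
set_option maxRecDepth 100000
set_option maxHeartbeats 0

namespace CfsgLib.Spor.Co2Invol

open Cfsg
open CfsgLib.Spor
open CfsgLib.Spor.Config
open CfsgLib.Base (le_pCore isPGroup_pCore)
open CfsgLib.Spor.ShortPairs (v0)
open CfsgLib.ThreeTransp.CoReduce (bigE)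
open scoped symmDiff Pointwise

/-! ### The largest normal 2-subgroup -/

theorem isPGroup_ker : IsPGroup 2 ↥phi.ker :=
  IsPGroup.of_card (n := 9) (by rw [natCard_ker]; norm_num)

theorem ncard_orbit_ct : (MulAction.orbit ct (bv 0)).ncard = 126 ∧
    ∀ r, Root r → r ∈ MulAction.orbit ct (bv 0) := by
  classical
  set R : Set leechLattice := {r | Root r} with hR
  have hsub : MulAction.orbit ct (bv 0) ⊆ R := by
    rintro _ ⟨g, rfl⟩
    exact root_smul g.2 (root_bv 0)
  have hinj : Function.Injective fun y : leechLattice => lOf (y : GolayPt → ℤ) :=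
    fun a b h => Subtype.ext (lOf_inj h)
  have himg : (fun y : leechLattice => lOf (y : GolayPt → ℤ)) '' R ⊆
      (↑(rootTab.map Prod.fst).toFinset : Set (List ℤ)) := by
    rintro _ ⟨r, hr, rfl⟩
    obtain ⟨e, he, hl⟩ := mem_rootTab hr
    exact List.mem_toFinset.2 (List.mem_map.2 ⟨e, he, hl⟩)
  have hfin : R.Finite := Set.Finite.of_finite_image ((Finset.finite_toSet _).subset himg) hinj.injOn
  have hle : R.ncard ≤ 126 := by
    rw [← Set.ncard_image_of_injective _ hinj]
    refine le_trans (Set.ncard_le_ncard himg (Finset.finite_toSet _)) ?_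
    rw [Set.ncard_coe_finset]
    exact le_trans (List.toFinset_card_le _) (le_of_eq (by decide +kernel))
  have hge : 126 ≤ (MulAction.orbit ct (bv 0)).ncard := by
    have h := (gens_fixTo (gs := lev0Gens) (k := 0) (by decide +kernel) (by decide +kernel)).le_orbit
      (lOf_bv 0) (le_of_eq_of_le (root_bv 0).1 (by norm_num)) (w := lev0Walk) (N := 126)
      (by decide +kernel)
    rwa [fixTo_zero] at h
  have he := Set.eq_of_subset_of_ncard_le hsub (hle.trans hge) hfin
  refine ⟨le_antisymm (le_trans (Set.ncard_le_ncard hsub hfin) hle) hge, fun r hr => ?_⟩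
  rw [he]
  exact hr

theorem fixed_check : (rootTab.all fun e => !(lev1Gens.all fun P => decide (runP P e.1 = e.1)) ||
    decide (e.1 = baseAt 0) || decide (e.1 = (baseAt 0).map fun x => -x)) = true := by decide +kernel

theorem eq_pm_of_fixed {r : leechLattice} (hr : Root r) (h : ∀ g ∈ fixTo 1, g • r = r) :
    r = bv 0 ∨ r = -bv 0 := by
  obtain ⟨e, he, hl⟩ := mem_rootTab hr
  have hall : lev1Gens.all (fun P => decide (runP P e.1 = e.1)) = true :=
    List.all_eq_true.2 fun P hP => decide_eq_true (by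
      obtain ⟨-, g, hg, hga⟩ :=
        (gens_fixTo (gs := lev1Gens) (k := 1) (by decide +kernel) (by decide +kernel)).spec P hP
      rw [hl, ← hga, h g hg])
  have hc := List.all_eq_true.1 fixed_check e he
  rw [hall] at hc
  simp only [Bool.not_true, Bool.false_or, Bool.or_eq_true, decide_eq_true_eq, hl, baseAt] at hc
  rcases hc with hh | hh
  · left; exact Subtype.ext (lOf_inj (by rw [hh, lOf_bv]))
  · right; exact Subtype.ext (lOf_inj (by rw [NegMemClass.coe_neg, lOf_neg, lOf_bv, hh]))

/-- A normal 2-subgroup moves each root at most to its negative. -/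
theorem pm_of_normal {N : Subgroup ↥ct} (hN : N.Normal) (hp : IsPGroup 2 N) {n : ↥ct} (hn : n ∈ N)
    {r : leechLattice} (hr : Root r) : (n : Co0) • r = r ∨ (n : Co0) • r = -r := by
  classical
  have h0 : ∀ m ∈ N, (m : Co0) • bv 0 = bv 0 ∨ (m : Co0) • bv 0 = -bv 0 := by
    intro m hm
    obtain ⟨hd1, hd2⟩ := ConwayArith.ncard_orbit_normal hN (bv 0)
    rw [ncard_orbit_ct.1] at hd1
    obtain ⟨k, hk⟩ := hp.exists_card_eq
    rw [hk] at hd2
    obtain ⟨j, -, hj⟩ := (Nat.dvd_prime_pow Nat.prime_two).1 hd2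
    have hj2 : (MulAction.orbit N (bv 0)).ncard ≤ 2 := by
      rw [hj] at hd1 ⊢
      by_contra hc
      have : 2 ≤ j := by
        by_contra hj'
        exact hc (le_trans (Nat.pow_le_pow_right (by norm_num) (by omega : j ≤ 1)) (by norm_num))
      have h4 : 4 ∣ 126 := (Nat.pow_dvd_pow 2 this).trans hd1
      omega
    by_cases hfix : (m : Co0) • bv 0 = bv 0
    · exact Or.inl hfix
    refine eq_pm_of_fixed (root_smul m.2 (root_bv 0)) fun g hg => ?_
    rw [mem_fixTo] at hg
    have hgb : g • bv 0 = bv 0 := hg.2 0 Nat.zero_lt_one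
    have hpair : ∀ w ∈ MulAction.orbit N (bv 0), w = bv 0 ∨ w = (m : Co0) • bv 0 := by
      intro w hw
      by_contra hcon
      rw [not_or] at hcon
      have hfin : (MulAction.orbit N (bv 0)).Finite := Set.finite_range _
      have h3 : ({bv 0, (m : Co0) • bv 0, w} : Set leechLattice).ncard = 3 :=
        Set.ncard_eq_three.2 ⟨_, _, _, Ne.symm hfix, Ne.symm hcon.1, Ne.symm hcon.2, rfl⟩
      have := Set.ncard_le_ncard (s := ({bv 0, (m : Co0) • bv 0, w} : Set leechLattice))
        (t := MulAction.orbit N (bv 0)) (by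
          rintro x (rfl | rfl | rfl)
          · exact MulAction.mem_orbit_self _
          · exact ⟨⟨m, hm⟩, rfl⟩
          · exact hw) hfin
      omega
    have hmem : g • (m : Co0) • bv 0 ∈ MulAction.orbit N (bv 0) := by
      refine ⟨⟨_, hN.conj_mem m hm ⟨g, hg.1⟩⟩, ?_⟩
      show ((g * m * g⁻¹ : Co0)) • bv 0 = _
      rw [mul_smul, mul_smul]
      conv_lhs => rw [← hgb, inv_smul_smul]
    rcases hpair _ hmem with h | h
    · exact absurd (smul_left_cancel g (h.trans hgb.symm)) hfix
    · exact h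
  obtain ⟨g, rfl⟩ := ncard_orbit_ct.2 r hr
  have hc : ((g⁻¹ * n * g : ↥ct) : ↥ct) ∈ N := by
    have := hN.conj_mem n hn g⁻¹
    rwa [inv_inv] at this
  have key : (n : Co0) • ((g : Co0) • bv 0) = (g : Co0) • (((g⁻¹ * n * g : ↥ct) : Co0) • bv 0) := by
    simp only [Subgroup.coe_mul, Subgroup.coe_inv, mul_smul, smul_inv_smul]
  show (n : Co0) • ((g : Co0) • bv 0) = (g : Co0) • bv 0 ∨
    (n : Co0) • ((g : Co0) • bv 0) = -((g : Co0) • bv 0)
  rw [key]
  rcases h0 _ hc with h | h <;> rw [h]
  · exact Or.inl rfl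
  · exact Or.inr (smul_neg_co0 _ _)

theorem pr_neg_left {x y : leechLattice} (h : (16 : ℤ) ∣ dotInt (x : GolayPt → ℤ) (y : GolayPt → ℤ)) :
    pr (-x) y = pr x y := by
  have e : dotInt ((-x : leechLattice) : GolayPt → ℤ) (y : GolayPt → ℤ) =
      -dotInt (x : GolayPt → ℤ) (y : GolayPt → ℤ) := by
    simp [dotInt, Finset.sum_neg_distrib]
  rw [pr, pr, e, Int.neg_ediv_of_dvd h, Int.cast_neg, ZMod.neg_eq_self_mod_two]

theorem pCore_eq_ker : pCore 2 ↥ct = phi.ker := by
  refine le_antisymm (fun n hn => ?_) (le_pCore isPGroup_ker)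
  rw [MonoidHom.mem_ker]
  refine Subtype.ext ?_
  show mat n = 1
  rw [← mat_one]
  ext a j
  show pr ((n : Co0) • bs j) (bd a) = pr ((1 : Co0) • bs j) (bd a)
  rw [one_smul]
  rcases pm_of_normal inferInstance (isPGroup_pCore 2 _) hn (root_bs j) with h | h
  · rw [h]
  · rw [h, pr_neg_left]
    exact dvd_dot (root_bs j) (root_bd a)

/-! ### The extraspecial kernel -/

theorem fixPerms_check : (fixPerms.all fun a => isM24P a && (List.range 24).all fun i =>
      !oct.testBit i || Nat.beq (getP a i) i) = true ∧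
    (fixPerms.map fun a => (List.range 24).map (getP a)).Nodup ∧ fixPerms.length = 16 := by
  decide +kernel

theorem exists_rep_fixO {σ : ↥M24} (h : FixO (σ : Equiv.Perm GolayPt)) :
    ∃ a ∈ fixPerms, Rep (σ : Equiv.Perm GolayPt) a := by
  obtain ⟨h1, h2, h3⟩ := fixPerms_check
  simp only [List.all_eq_true, Bool.and_eq_true, List.mem_range, Bool.or_eq_true, Bool.not_eq_true',
    Nat.beq_eq] at h1
  choose τ hτ hrep using fun i : Fin fixPerms.length =>
    exists_rep_M24 (h1 _ (List.getElem_mem i.2)).1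
  let f : Fin fixPerms.length → {σ : ↥M24 // FixO (σ : Equiv.Perm GolayPt)} := fun i =>
    ⟨⟨τ i, hτ i⟩, fun p hp => idx_injective (by
      rcases (h1 _ (List.getElem_mem i.2)).2 (idx p) (idx_lt p) with h | h
      · exact absurd hp (by rw [inO, h]; decide)
      · exact ((hrep i).get p).symm.trans h)⟩
  have hf : Function.Injective f := fun i j hij => by
    have e : τ i = τ j := congrArg (fun x => (x.1 : Equiv.Perm GolayPt)) hij
    have hl : (fixPerms.map fun a => (List.range 24).map (getP a))[i.val]'(by simp) =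
        (fixPerms.map fun a => (List.range 24).map (getP a))[j.val]'(by simp) := by
      simp only [List.getElem_map]
      refine List.map_congr_left fun q hq => ?_
      rw [hrep i q (List.mem_range.1 hq), hrep j q (List.mem_range.1 hq), e]
    exact Fin.ext (h2.getElem_inj_iff.1 hl)
  obtain ⟨i, hi⟩ := (hf.bijective_of_nat_card_le (by rw [natCard_fixO, Nat.card_fin, h3])).2 ⟨σ, h⟩
  refine ⟨_, List.getElem_mem i.2, ?_⟩
  have e : τ i = (σ : Equiv.Perm GolayPt) := congrArg (fun x => (x.1 : Equiv.Perm GolayPt)) hi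
  rw [← e]
  exact hrep i

theorem kernel_form {g : Co0} (hg : g ∈ octFix) :
    ∃ (m : MonoIdx) (a w : ℕ), monoEl m = g ∧ FixO (m.1 : Equiv.Perm GolayPt) ∧ a ∈ fixPerms ∧
      Rep (m.1 : Equiv.Perm GolayPt) a ∧ w ∈ outWords ∧ (m.2 : Finset GolayPt) = toSet w := by
  obtain ⟨m, hm, h1, h2⟩ := exists_mono_of_octFix hg
  obtain ⟨a, ha, hr⟩ := exists_rep_fixO h1
  refine ⟨m, a, mask (m.2 : Finset GolayPt), hm, h1, ha, hr, ?_, (toSet_mask _).symm⟩
  obtain ⟨-, h, -, -⟩ := outWords_spec
  simp only [List.all_eq_true, Bool.or_eq_true, Bool.not_eq_true', List.any_eq_true, Nat.beq_eq] at h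
  rcases h _ (mem_supports_iff.1 m.2.2) with h' | ⟨w, hw, rfl⟩
  · exfalso
    have : mask (m.2 : Finset GolayPt) &&& oct = 0 := by
      refine Nat.eq_of_testBit_eq fun q => ?_
      rw [Nat.testBit_and, Nat.zero_testBit]
      by_contra hcon
      simp only [Bool.not_eq_false, Bool.and_eq_true] at hcon
      have hq : q < 24 := by
        by_contra hq
        rw [Nat.testBit_lt_two_pow (lt_of_lt_of_le (mask_lt _)
          (Nat.pow_le_pow_right (by norm_num) (le_of_not_gt hq)))] at hcon
        exact Bool.noConfusion hcon.1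
      have h := h2 (pt q) (by
        rw [← toSet_mask (m.2 : Finset GolayPt), mem_toSet, idx_pt hq]; exact hcon.1)
      rw [inO, idx_pt hq, hcon.2] at h
      exact Bool.noConfusion h
    rw [this] at h'
    exact Bool.noConfusion h'
  · exact hw

theorem mono_mul_masks {p q : MonoIdx} {a v w : ℕ} (hr : Rep (p.1 : Equiv.Perm GolayPt) a)
    (hp : (p.2 : Finset GolayPt) = toSet v) (hq : (q.2 : Finset GolayPt) = toSet w) :
    ∃ m : MonoIdx, monoEl m = monoEl p * monoEl q ∧ m.1 = p.1 * q.1 ∧
      (m.2 : Finset GolayPt) = toSet (v ^^^ actP a w) := by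
  refine ⟨_, (monoEl_mul p q).symm, rfl, ?_⟩
  show (p.2 : Finset GolayPt) ∆ ((p.1 : Equiv.Perm GolayPt) • (q.2 : Finset GolayPt)) = _
  rw [hp, hq, ← hr.toSet_actP, ← toSet_xor]

theorem mono_eq {p q : MonoIdx} (h1 : p.1 = q.1) (h2 : (p.2 : Finset GolayPt) = q.2) :
    monoEl p = monoEl q := by
  rw [show p = q from Prod.ext h1 (Subtype.ext h2)]

theorem toSet_zero' : toSet 0 = ∅ := Finset.eq_empty_of_forall_notMem fun p hp => by
  rw [mem_toSet, Nat.zero_testBit] at hp
  exact Bool.noConfusion hp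

theorem perm_tables : (fixPerms.all fun a => fixPerms.all fun b => (List.range 24).all fun i =>
      Nat.beq (getP a (getP b i)) (getP b (getP a i))) = true ∧
    (fixPerms.all fun a => outWords.all fun m =>
      Nat.beq (m ^^^ actP a m) 0 || Nat.beq (m ^^^ actP a m) out) = true ∧
    (fixPerms.all fun a => (outWords.all fun m => Nat.beq (actP a m) m) ==
      (List.range 24).all fun i => Nat.beq (getP a i) i) = true ∧
    (outWords.all fun m => Nat.beq m 0 || Nat.beq m out ||
      fixPerms.any fun a => !Nat.beq (actP a m) m) = true ∧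
    (outWords.all fun m => decide (m < 16777216)) = true := by
  decide +kernel

theorem rep_commute {σ τ : ↥M24} {a b : ℕ} (ha : a ∈ fixPerms) (hb : b ∈ fixPerms)
    (hσ : Rep (σ : Equiv.Perm GolayPt) a) (hτ : Rep (τ : Equiv.Perm GolayPt) b) : σ * τ = τ * σ := by
  refine Subtype.ext (Equiv.ext fun p => idx_injective ?_)
  have h := List.all_eq_true.1 (List.all_eq_true.1 (List.all_eq_true.1 perm_tables.1 a ha) b hb)
    (idx p) (List.mem_range.2 (idx_lt p))
  rw [Nat.beq_eq, hτ.get, hσ.get, hσ.get, hτ.get] at h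
  exact h

theorem fixO_sq {σ : ↥M24} (h : FixO (σ : Equiv.Perm GolayPt)) : σ * σ = 1 :=
  Subtype.ext ((octad_pointwise_stabilizer toSet_oct_octad).2 _ (Subgroup.mem_inf.2
    ⟨σ.2, (mem_fixingSubgroup_iff _).2 fun p hp => h p (mem_toSet.1 (Finset.mem_coe.1 hp))⟩))

/-- The kernel is extraspecial, with the involution at its centre. -/
theorem isExtraspecial_ker : IsExtraspecial 2 ↥phi.ker := by
  have hz : tEl ∈ ct := mem_ct.2 ⟨tEl_v0, rfl⟩
  have hzO : tEl ∈ octFix := ⟨hz, (mem_fixingSubgroup_iff _).2 (by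
    rintro _ ⟨p, hp, rfl⟩
    exact supp_iff.1 (supp_bigE hp))⟩
  obtain ⟨hP, hQ, hR, hS, hT⟩ := perm_tables
  simp only [List.all_eq_true, Bool.or_eq_true, Nat.beq_eq, beq_iff_eq] at hQ
  have hone : monoEl (1, ⟨∅, empty_supports⟩) = 1 := monoEl_one
  have hmul : ∀ (m : MonoIdx) (w : ℕ), (m.2 : Finset GolayPt) = toSet w →
      ∃ q : MonoIdx, monoEl q = tEl * monoEl m ∧ q.1 = m.1 ∧
        (q.2 : Finset GolayPt) = toSet (out ^^^ w) := fun m w hw => by
    refine ⟨_, (monoEl_mul (1, ⟨toSet out, toSet_mem_supports oct_facts.2.1⟩) m).symm, one_mul _, ?_⟩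
    show toSet out ∆ ((1 : Equiv.Perm GolayPt) • (m.2 : Finset GolayPt)) = _
    rw [one_smul, hw, ← toSet_xor]
  refine (CfsgLib.ThreeTransp.isExtraspecial_of phi.ker (z := ⟨tEl, hz⟩) isPGroup_ker
    ((mem_ker_iff _).2 hzO) ?_ ?_ (fun e _ => Subtype.ext (mem_ct.1 e.2).2.symm) ?_ ?_ ?_ ?_).1
  · intro h
    exact (by decide +kernel : lOf ((bigE (pt 4) : leechLattice) : GolayPt → ℤ) ≠
      lOf ((tEl • bigE (pt 4) : leechLattice) : GolayPt → ℤ)) (by
        rw [show tEl = (1 : Co0) from congrArg Subtype.val h, one_smul])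
  · refine Subtype.ext ?_
    show tEl * tEl = 1
    obtain ⟨q, hq, hq1, hq2⟩ := hmul (1, ⟨toSet out, toSet_mem_supports oct_facts.2.1⟩) out rfl
    rw [← hone, show tEl * tEl = monoEl q from hq.symm]
    exact mono_eq hq1 (hq2.trans (by rw [Nat.xor_self, toSet_zero']))
  · intro x hx y hy
    obtain ⟨p, a, v, hp, -, ha, hpr, hv, hpv⟩ := kernel_form ((mem_ker_iff _).1 hx)
    obtain ⟨q, b, w, hq, -, hb, hqr, hw, hqw⟩ := kernel_form ((mem_ker_iff _).1 hy)
    obtain ⟨m, hm, hm1, hm2⟩ := mono_mul_masks hpr hpv hqw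
    obtain ⟨n, hn, hn1, hn2⟩ := mono_mul_masks hqr hqw hpv
    obtain ⟨r, hr, hr1, hr2⟩ := hmul n _ hn2
    have hcase : x * y = y * x ∨ x * y = (⟨tEl, hz⟩ : ↥ct) * (y * x) := by
      have e : (v ^^^ actP a w) ^^^ (w ^^^ actP b v) = (v ^^^ actP b v) ^^^ (w ^^^ actP a w) := by
        refine Nat.eq_of_testBit_eq fun i => ?_
        simp only [Nat.testBit_xor]
        cases v.testBit i <;> cases w.testBit i <;> cases (actP a w).testBit i <;>
          cases (actP b v).testBit i <;> rfl
      have hcc : (v ^^^ actP a w) ^^^ (w ^^^ actP b v) = 0 ∨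
          (v ^^^ actP a w) ^^^ (w ^^^ actP b v) = out := by
        rw [e]
        rcases hQ b hb v hv with h | h <;> rcases hQ a ha w hw with h' | h' <;> rw [h, h'] <;>
          simp
      rcases hcc with h | h
      · left
        refine Subtype.ext ?_
        show (x : Co0) * y = (y : Co0) * x
        rw [← hp, ← hq, ← hm, ← hn]
        refine mono_eq (by rw [hm1, hn1, rep_commute ha hb hpr hqr]) ?_
        rw [hm2, hn2, Nat.xor_eq_zero_iff.1 h]
      · right
        refine Subtype.ext ?_
        show (x : Co0) * y = tEl * ((y : Co0) * x)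
        rw [← hp, ← hq, ← hm, ← hn, ← hr]
        refine mono_eq (by rw [hm1, hr1, hn1, rep_commute ha hb hpr hqr]) ?_
        rw [hm2, hr2, ← h, Nat.xor_assoc, Nat.xor_self, Nat.xor_zero]
    rcases hcase with h | h
    · left; rw [h]; group
    · right; rw [h]; group
  · intro x hx
    obtain ⟨p, a, v, hp, hpF, ha, hpr, hv, hpv⟩ := kernel_form ((mem_ker_iff _).1 hx)
    obtain ⟨m, hm, hm1, hm2⟩ := mono_mul_masks hpr hpv hpv
    rcases hQ a ha v hv with h | h
    · left
      refine Subtype.ext ?_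
      show (x : Co0) * x = 1
      rw [← hp, ← hm, ← hone]
      exact mono_eq (by rw [hm1, fixO_sq hpF]) (by rw [hm2, h, toSet_zero'])
    · right
      refine Subtype.ext ?_
      show (x : Co0) * x = tEl
      rw [← hp, ← hm, tEl]
      exact mono_eq (by rw [hm1, fixO_sq hpF]) (by rw [hm2, h])
  · intro d hd hcomm
    obtain ⟨p, a, v, hp, hpF, ha, hpr, hv, hpv⟩ := kernel_form ((mem_ker_iff _).1 hd)
    have hmemP : ∀ m : MonoIdx, FixO (m.1 : Equiv.Perm GolayPt) →
        (∀ i, i ∈ (m.2 : Finset GolayPt) → inO i = false) →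
        monoEl m * monoEl p = monoEl p * monoEl m := fun m h1 h2 => by
      have h := mono_mem_octFix h1 h2
      rw [hp]
      exact congrArg Subtype.val (hcomm ⟨monoEl m, h.1⟩ ((mem_ker_iff _).2 h))
    have hlt : ∀ w ∈ outWords, w < 2 ^ 24 := fun w hw => by
      have := List.all_eq_true.1 hT w hw
      simpa using this
    have hinj : ∀ s t : ℕ, s < 2 ^ 24 → t < 2 ^ 24 → toSet s = toSet t → s = t :=
      fun s t hs ht h => by rw [← mask_toSet hs, h, mask_toSet ht]
    obtain ⟨h1o, h2o, -, -⟩ := outWords_spec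
    simp only [List.all_eq_true, Bool.and_eq_true, decide_eq_true_eq, Nat.beq_eq] at h1o
    have hA : ∀ w ∈ outWords, actP a w = w := by
      intro w hw
      have hwo : ∀ i, i ∈ toSet w → inO i = false := fun i hi => by
        have h := congrArg (fun x => Nat.testBit x (idx i)) (h1o w hw).2
        simp only [Nat.testBit_and, mem_toSet.1 hi, Bool.true_and, Nat.zero_testBit] at h
        exact h
      have h := hmemP (1, ⟨toSet w, toSet_mem_supports (h1o w hw).1⟩) (fun _ _ => rfl) hwo
      obtain ⟨m, hm, -, hm2⟩ :=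
        mono_mul_masks (q := (1, ⟨toSet w, toSet_mem_supports (h1o w hw).1⟩)) hpr hpv rfl
      rw [← hm, monoEl_mul] at h
      have e := congrArg (fun r : MonoIdx => (r.2 : Finset GolayPt)) (monoEl_injective h)
      simp only [hm2] at e
      rw [OneMemClass.coe_one, one_smul, hpv, ← toSet_xor] at e
      have e' := hinj _ _ (Nat.xor_lt_two_pow (hlt w hw) (hlt v hv))
        (Nat.xor_lt_two_pow (hlt v hv) (hpr.actP_lt w)) e
      rw [Nat.xor_comm w] at e'
      exact (Nat.xor_right_injective e').symm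
    have hid : (List.range 24).all (fun i => Nat.beq (getP a i) i) = true := by
      have := List.all_eq_true.1 hR a ha
      rw [beq_iff_eq] at this
      rw [← this, List.all_eq_true]
      exact fun w hw => by rw [Nat.beq_eq]; exact hA w hw
    have hσ : p.1 = 1 := Subtype.ext (Equiv.ext fun i => idx_injective (by
      have := List.all_eq_true.1 hid (idx i) (List.mem_range.2 (idx_lt i))
      rw [Nat.beq_eq, hpr.get] at this
      exact this))
    have hv' : v = 0 ∨ v = out := by
      have h := List.all_eq_true.1 hS v hv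
      simp only [Bool.or_eq_true, Nat.beq_eq, List.any_eq_true, Bool.not_eq_true'] at h
      rcases h with (h | h) | ⟨b, hb, hne⟩
      · exact Or.inl h
      · exact Or.inr h
      exfalso
      have hfix := List.all_eq_true.1 fixPerms_check.1 b hb
      simp only [Bool.and_eq_true, List.all_eq_true, List.mem_range, Bool.or_eq_true,
        Bool.not_eq_true', Nat.beq_eq] at hfix
      obtain ⟨τ, hτ, hrep⟩ := exists_rep_M24 hfix.1
      have hF : FixO τ := fun i hi => idx_injective (by
        rcases hfix.2 (idx i) (idx_lt i) with h' | h'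
        · exact absurd hi (by rw [inO, h']; decide)
        · exact (hrep.get i).symm.trans h')
      have h := hmemP (⟨τ, hτ⟩, ⟨∅, empty_supports⟩) hF (fun i hi => absurd hi (Finset.notMem_empty i))
      rw [monoEl_mul, monoEl_mul] at h
      have e := congrArg (fun r : MonoIdx => (r.2 : Finset GolayPt)) (monoEl_injective h)
      simp only [hσ, OneMemClass.coe_one, one_smul, hpv] at e
      rw [← hrep.toSet_actP, ← toSet_zero', ← toSet_xor, ← toSet_xor, Nat.zero_xor,
        Nat.xor_zero] at e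
      have := hinj _ _ (hrep.actP_lt v) (hlt v hv) e
      rw [this] at hne
      simp at hne
    rcases hv' with rfl | rfl
    · left
      refine Subtype.ext ?_
      rw [← hp]
      exact (mono_eq (q := (1, ⟨∅, empty_supports⟩)) hσ (by rw [hpv, toSet_zero'])).trans hone
    · right
      refine Subtype.ext ?_
      show (d : Co0) = tEl
      rw [← hp]
      exact mono_eq hσ hpv
  · obtain ⟨h1, h2, h3⟩ := fixPerms_check
    have hex : ∃ a ∈ fixPerms, ∃ w ∈ outWords, actP a w ≠ w := by decide +kernel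
    obtain ⟨b, hb, w, hw, hne⟩ := hex
    have hfix := List.all_eq_true.1 h1 b hb
    simp only [Bool.and_eq_true, List.all_eq_true, List.mem_range, Bool.or_eq_true,
      Bool.not_eq_true', Nat.beq_eq] at hfix
    obtain ⟨τ, hτ, hrep⟩ := exists_rep_M24 hfix.1
    have hF : FixO τ := fun i hi => idx_injective (by
      rcases hfix.2 (idx i) (idx_lt i) with h' | h'
      · exact absurd hi (by rw [inO, h']; decide)
      · exact (hrep.get i).symm.trans h')
    obtain ⟨h1o, -, -, -⟩ := outWords_spec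
    simp only [List.all_eq_true, Bool.and_eq_true, decide_eq_true_eq, Nat.beq_eq] at h1o
    have hwo : ∀ i, i ∈ toSet w → inO i = false := fun i hi => by
      have h := congrArg (fun x => Nat.testBit x (idx i)) (h1o w hw).2
      simp only [Nat.testBit_and, mem_toSet.1 hi, Bool.true_and, Nat.zero_testBit] at h
      exact h
    have hx := mono_mem_octFix (m := (⟨τ, hτ⟩, ⟨∅, empty_supports⟩)) hF
      (fun i hi => absurd hi (Finset.notMem_empty i))
    have hy := mono_mem_octFix (m := (1, ⟨toSet w, toSet_mem_supports (h1o w hw).1⟩))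
      (fun _ _ => rfl) hwo
    refine ⟨⟨_, hx.1⟩, (mem_ker_iff _).2 hx, ⟨_, hy.1⟩, (mem_ker_iff _).2 hy, fun h => hne ?_⟩
    have h' : monoEl (⟨τ, hτ⟩, ⟨∅, empty_supports⟩) *
        monoEl (1, ⟨toSet w, toSet_mem_supports (h1o w hw).1⟩) =
        monoEl (1, ⟨toSet w, toSet_mem_supports (h1o w hw).1⟩) *
        monoEl (⟨τ, hτ⟩, ⟨∅, empty_supports⟩) := congrArg Subtype.val h
    rw [monoEl_mul, monoEl_mul] at h'
    have e := congrArg (fun r : MonoIdx => (r.2 : Finset GolayPt)) (monoEl_injective h')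
    simp only [OneMemClass.coe_one, one_smul] at e
    rw [← hrep.toSet_actP, ← toSet_zero', ← toSet_xor, ← toSet_xor, Nat.zero_xor,
      Nat.xor_zero] at e
    rw [← mask_toSet (hrep.actP_lt w), e, mask_toSet]
    exact lt_of_mem_codeList (h1o w hw).1

end CfsgLib.Spor.Co2Invol
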