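import Cfsg.Agent.Lib.Spor.Co0Census
import Cfsg.Agent.Lib.Spor.ConwayArith
import Cfsg.Agent.Lib.Spor.ShortPairs

/-!
The involution of `Co₂` negating the coordinates outside an octad through the two special points,
and the 126 roots of the sublattice supported on that octad orthogonal to the fixed vector.
-/

set_option autoImplicit false
set_option Elab.async false
set_option maxRecDepth 100000
set_option maxHeartbeats 0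

namespace CfsgLib.Spor.Co2Invol

open Cfsg
open CfsgLib.Spor
open CfsgLib.Spor.ShortPairs (v0)
open CfsgLib.ThreeTransp.CoReduce (bigE dot_preserved)

/-- roots with their coordinates in the base and their residues -/
def rootTab : List (List ℤ × List ℤ × ℕ) := [
  ([4, 0, 0, 0, 0, 0, 0, 0, 0, 0, 0, 0, 0, 0, 0, 0, 0, 0, 0, 0, 0, 0, 0, -4], [1, 1, 1, 0, 0, 1, 1], 6),
  ([-4, 0, 0, 0, 0, 0, 0, 0, 0, 0, 0, 0, 0, 0, 0, 0, 0, 0, 0, 0, 0, 0, 0, 4], [-1, -1, -1, 0, 0, -1, -1], 6),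
  ([0, 4, 4, 0, 0, 0, 0, 0, 0, 0, 0, 0, 0, 0, 0, 0, 0, 0, 0, 0, 0, 0, 0, 0], [3, 2, 3, 1, 2, 1, 1], 61),
  ([0, 4, -4, 0, 0, 0, 0, 0, 0, 0, 0, 0, 0, 0, 0, 0, 0, 0, 0, 0, 0, 0, 0, 0], [1, 1, 2, 1, 2, 1, 1], 59),
  ([0, -4, 4, 0, 0, 0, 0, 0, 0, 0, 0, 0, 0, 0, 0, 0, 0, 0, 0, 0, 0, 0, 0, 0], [-1, -1, -2, -1, -2, -1, -1], 59),
  ([0, -4, -4, 0, 0, 0, 0, 0, 0, 0, 0, 0, 0, 0, 0, 0, 0, 0, 0, 0, 0, 0, 0, 0], [-3, -2, -3, -1, -2, -1, -1], 61),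
  ([0, 4, 0, 4, 0, 0, 0, 0, 0, 0, 0, 0, 0, 0, 0, 0, 0, 0, 0, 0, 0, 0, 0, 0], [2, 2, 2, 1, 2, 1, 1], 48),
  ([0, 4, 0, -4, 0, 0, 0, 0, 0, 0, 0, 0, 0, 0, 0, 0, 0, 0, 0, 0, 0, 0, 0, 0], [2, 1, 3, 1, 2, 1, 1], 54),
  ([0, -4, 0, 4, 0, 0, 0, 0, 0, 0, 0, 0, 0, 0, 0, 0, 0, 0, 0, 0, 0, 0, 0, 0], [-2, -1, -3, -1, -2, -1, -1], 54),
  ([0, -4, 0, -4, 0, 0, 0, 0, 0, 0, 0, 0, 0, 0, 0, 0, 0, 0, 0, 0, 0, 0, 0, 0], [-2, -2, -2, -1, -2, -1, -1], 48),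
  ([0, 4, 0, 0, 0, 4, 0, 0, 0, 0, 0, 0, 0, 0, 0, 0, 0, 0, 0, 0, 0, 0, 0, 0], [3, 2, 4, 2, 3, 2, 1], 53),
  ([0, 4, 0, 0, 0, -4, 0, 0, 0, 0, 0, 0, 0, 0, 0, 0, 0, 0, 0, 0, 0, 0, 0, 0], [1, 1, 1, 0, 1, 0, 1], 51),
  ([0, -4, 0, 0, 0, 4, 0, 0, 0, 0, 0, 0, 0, 0, 0, 0, 0, 0, 0, 0, 0, 0, 0, 0], [-1, -1, -1, 0, -1, 0, -1], 51),
  ([0, -4, 0, 0, 0, -4, 0, 0, 0, 0, 0, 0, 0, 0, 0, 0, 0, 0, 0, 0, 0, 0, 0, 0], [-3, -2, -4, -2, -3, -2, -1], 53),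
  ([0, 4, 0, 0, 0, 0, 0, 0, 0, 0, 0, 0, 0, 0, 4, 0, 0, 0, 0, 0, 0, 0, 0, 0], [2, 2, 3, 1, 2, 1, 1], 58),
  ([0, 4, 0, 0, 0, 0, 0, 0, 0, 0, 0, 0, 0, 0, -4, 0, 0, 0, 0, 0, 0, 0, 0, 0], [2, 1, 2, 1, 2, 1, 1], 60),
  ([0, -4, 0, 0, 0, 0, 0, 0, 0, 0, 0, 0, 0, 0, 4, 0, 0, 0, 0, 0, 0, 0, 0, 0], [-2, -1, -2, -1, -2, -1, -1], 60),
  ([0, -4, 0, 0, 0, 0, 0, 0, 0, 0, 0, 0, 0, 0, -4, 0, 0, 0, 0, 0, 0, 0, 0, 0], [-2, -2, -3, -1, -2, -1, -1], 58),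
  ([0, 4, 0, 0, 0, 0, 0, 0, 0, 0, 0, 0, 0, 0, 0, 0, 0, 4, 0, 0, 0, 0, 0, 0], [3, 2, 4, 1, 3, 2, 1], 2),
  ([0, 4, 0, 0, 0, 0, 0, 0, 0, 0, 0, 0, 0, 0, 0, 0, 0, -4, 0, 0, 0, 0, 0, 0], [1, 1, 1, 1, 1, 0, 1], 4),
  ([0, -4, 0, 0, 0, 0, 0, 0, 0, 0, 0, 0, 0, 0, 0, 0, 0, 4, 0, 0, 0, 0, 0, 0], [-1, -1, -1, -1, -1, 0, -1], 4),
  ([0, -4, 0, 0, 0, 0, 0, 0, 0, 0, 0, 0, 0, 0, 0, 0, 0, -4, 0, 0, 0, 0, 0, 0], [-3, -2, -4, -1, -3, -2, -1], 2),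
  ([0, 0, 4, 4, 0, 0, 0, 0, 0, 0, 0, 0, 0, 0, 0, 0, 0, 0, 0, 0, 0, 0, 0, 0], [1, 1, 0, 0, 0, 0, 0], 11),
  ([0, 0, 4, -4, 0, 0, 0, 0, 0, 0, 0, 0, 0, 0, 0, 0, 0, 0, 0, 0, 0, 0, 0, 0], [1, 0, 1, 0, 0, 0, 0], 13),
  ([0, 0, -4, 4, 0, 0, 0, 0, 0, 0, 0, 0, 0, 0, 0, 0, 0, 0, 0, 0, 0, 0, 0, 0], [-1, 0, -1, 0, 0, 0, 0], 13),
  ([0, 0, -4, -4, 0, 0, 0, 0, 0, 0, 0, 0, 0, 0, 0, 0, 0, 0, 0, 0, 0, 0, 0, 0], [-1, -1, 0, 0, 0, 0, 0], 11),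
  ([0, 0, 4, 0, 0, 4, 0, 0, 0, 0, 0, 0, 0, 0, 0, 0, 0, 0, 0, 0, 0, 0, 0, 0], [2, 1, 2, 1, 1, 1, 0], 14),
  ([0, 0, 4, 0, 0, -4, 0, 0, 0, 0, 0, 0, 0, 0, 0, 0, 0, 0, 0, 0, 0, 0, 0, 0], [0, 0, -1, -1, -1, -1, 0], 8),
  ([0, 0, -4, 0, 0, 4, 0, 0, 0, 0, 0, 0, 0, 0, 0, 0, 0, 0, 0, 0, 0, 0, 0, 0], [0, 0, 1, 1, 1, 1, 0], 8),
  ([0, 0, -4, 0, 0, -4, 0, 0, 0, 0, 0, 0, 0, 0, 0, 0, 0, 0, 0, 0, 0, 0, 0, 0], [-2, -1, -2, -1, -1, -1, 0], 14),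
  ([0, 0, 4, 0, 0, 0, 0, 0, 0, 0, 0, 0, 0, 0, 4, 0, 0, 0, 0, 0, 0, 0, 0, 0], [1, 1, 1, 0, 0, 0, 0], 1),
  ([0, 0, 4, 0, 0, 0, 0, 0, 0, 0, 0, 0, 0, 0, -4, 0, 0, 0, 0, 0, 0, 0, 0, 0], [1, 0, 0, 0, 0, 0, 0], 7),
  ([0, 0, -4, 0, 0, 0, 0, 0, 0, 0, 0, 0, 0, 0, 4, 0, 0, 0, 0, 0, 0, 0, 0, 0], [-1, 0, 0, 0, 0, 0, 0], 7),
  ([0, 0, -4, 0, 0, 0, 0, 0, 0, 0, 0, 0, 0, 0, -4, 0, 0, 0, 0, 0, 0, 0, 0, 0], [-1, -1, -1, 0, 0, 0, 0], 1),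
  ([0, 0, 4, 0, 0, 0, 0, 0, 0, 0, 0, 0, 0, 0, 0, 0, 0, 4, 0, 0, 0, 0, 0, 0], [2, 1, 2, 0, 1, 1, 0], 57),
  ([0, 0, 4, 0, 0, 0, 0, 0, 0, 0, 0, 0, 0, 0, 0, 0, 0, -4, 0, 0, 0, 0, 0, 0], [0, 0, -1, 0, -1, -1, 0], 63),
  ([0, 0, -4, 0, 0, 0, 0, 0, 0, 0, 0, 0, 0, 0, 0, 0, 0, 4, 0, 0, 0, 0, 0, 0], [0, 0, 1, 0, 1, 1, 0], 63),
  ([0, 0, -4, 0, 0, 0, 0, 0, 0, 0, 0, 0, 0, 0, 0, 0, 0, -4, 0, 0, 0, 0, 0, 0], [-2, -1, -2, 0, -1, -1, 0], 57),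
  ([0, 0, 0, 4, 0, 4, 0, 0, 0, 0, 0, 0, 0, 0, 0, 0, 0, 0, 0, 0, 0, 0, 0, 0], [1, 1, 1, 1, 1, 1, 0], 3),
  ([0, 0, 0, 4, 0, -4, 0, 0, 0, 0, 0, 0, 0, 0, 0, 0, 0, 0, 0, 0, 0, 0, 0, 0], [-1, 0, -2, -1, -1, -1, 0], 5),
  ([0, 0, 0, -4, 0, 4, 0, 0, 0, 0, 0, 0, 0, 0, 0, 0, 0, 0, 0, 0, 0, 0, 0, 0], [1, 0, 2, 1, 1, 1, 0], 5),
  ([0, 0, 0, -4, 0, -4, 0, 0, 0, 0, 0, 0, 0, 0, 0, 0, 0, 0, 0, 0, 0, 0, 0, 0], [-1, -1, -1, -1, -1, -1, 0], 3),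
  ([0, 0, 0, 4, 0, 0, 0, 0, 0, 0, 0, 0, 0, 0, 4, 0, 0, 0, 0, 0, 0, 0, 0, 0], [0, 1, 0, 0, 0, 0, 0], 12),
  ([0, 0, 0, 4, 0, 0, 0, 0, 0, 0, 0, 0, 0, 0, -4, 0, 0, 0, 0, 0, 0, 0, 0, 0], [0, 0, -1, 0, 0, 0, 0], 10),
  ([0, 0, 0, -4, 0, 0, 0, 0, 0, 0, 0, 0, 0, 0, 4, 0, 0, 0, 0, 0, 0, 0, 0, 0], [0, 0, 1, 0, 0, 0, 0], 10),
  ([0, 0, 0, -4, 0, 0, 0, 0, 0, 0, 0, 0, 0, 0, -4, 0, 0, 0, 0, 0, 0, 0, 0, 0], [0, -1, 0, 0, 0, 0, 0], 12),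
  ([0, 0, 0, 4, 0, 0, 0, 0, 0, 0, 0, 0, 0, 0, 0, 0, 0, 4, 0, 0, 0, 0, 0, 0], [1, 1, 1, 0, 1, 1, 0], 52),
  ([0, 0, 0, 4, 0, 0, 0, 0, 0, 0, 0, 0, 0, 0, 0, 0, 0, -4, 0, 0, 0, 0, 0, 0], [-1, 0, -2, 0, -1, -1, 0], 50),
  ([0, 0, 0, -4, 0, 0, 0, 0, 0, 0, 0, 0, 0, 0, 0, 0, 0, 4, 0, 0, 0, 0, 0, 0], [1, 0, 2, 0, 1, 1, 0], 50),
  ([0, 0, 0, -4, 0, 0, 0, 0, 0, 0, 0, 0, 0, 0, 0, 0, 0, -4, 0, 0, 0, 0, 0, 0], [-1, -1, -1, 0, -1, -1, 0], 52),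
  ([0, 0, 0, 0, 0, 4, 0, 0, 0, 0, 0, 0, 0, 0, 4, 0, 0, 0, 0, 0, 0, 0, 0, 0], [1, 1, 2, 1, 1, 1, 0], 9),
  ([0, 0, 0, 0, 0, 4, 0, 0, 0, 0, 0, 0, 0, 0, -4, 0, 0, 0, 0, 0, 0, 0, 0, 0], [1, 0, 1, 1, 1, 1, 0], 15),
  ([0, 0, 0, 0, 0, -4, 0, 0, 0, 0, 0, 0, 0, 0, 4, 0, 0, 0, 0, 0, 0, 0, 0, 0], [-1, 0, -1, -1, -1, -1, 0], 15),
  ([0, 0, 0, 0, 0, -4, 0, 0, 0, 0, 0, 0, 0, 0, -4, 0, 0, 0, 0, 0, 0, 0, 0, 0], [-1, -1, -2, -1, -1, -1, 0], 9),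
  ([0, 0, 0, 0, 0, 4, 0, 0, 0, 0, 0, 0, 0, 0, 0, 0, 0, 4, 0, 0, 0, 0, 0, 0], [2, 1, 3, 1, 2, 2, 0], 49),
  ([0, 0, 0, 0, 0, 4, 0, 0, 0, 0, 0, 0, 0, 0, 0, 0, 0, -4, 0, 0, 0, 0, 0, 0], [0, 0, 0, 1, 0, 0, 0], 55),
  ([0, 0, 0, 0, 0, -4, 0, 0, 0, 0, 0, 0, 0, 0, 0, 0, 0, 4, 0, 0, 0, 0, 0, 0], [0, 0, 0, -1, 0, 0, 0], 55),
  ([0, 0, 0, 0, 0, -4, 0, 0, 0, 0, 0, 0, 0, 0, 0, 0, 0, -4, 0, 0, 0, 0, 0, 0], [-2, -1, -3, -1, -2, -2, 0], 49),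
  ([0, 0, 0, 0, 0, 0, 0, 0, 0, 0, 0, 0, 0, 0, 4, 0, 0, 4, 0, 0, 0, 0, 0, 0], [1, 1, 2, 0, 1, 1, 0], 62),
  ([0, 0, 0, 0, 0, 0, 0, 0, 0, 0, 0, 0, 0, 0, 4, 0, 0, -4, 0, 0, 0, 0, 0, 0], [-1, 0, -1, 0, -1, -1, 0], 56),
  ([0, 0, 0, 0, 0, 0, 0, 0, 0, 0, 0, 0, 0, 0, -4, 0, 0, 4, 0, 0, 0, 0, 0, 0], [1, 0, 1, 0, 1, 1, 0], 56),
  ([0, 0, 0, 0, 0, 0, 0, 0, 0, 0, 0, 0, 0, 0, -4, 0, 0, -4, 0, 0, 0, 0, 0, 0], [-1, -1, -2, 0, -1, -1, 0], 62),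
  ([-2, -2, 2, 2, 0, 2, 0, 0, 0, 0, 0, 0, 0, 0, 2, 0, 0, 2, 0, 0, 0, 0, 0, 2], [0, 0, 0, 0, 0, 0, -1], 46),
  ([-2, 2, -2, 2, 0, 2, 0, 0, 0, 0, 0, 0, 0, 0, 2, 0, 0, 2, 0, 0, 0, 0, 0, 2], [1, 1, 2, 1, 2, 1, 0], 21),
  ([-2, 2, 2, -2, 0, 2, 0, 0, 0, 0, 0, 0, 0, 0, 2, 0, 0, 2, 0, 0, 0, 0, 0, 2], [2, 1, 3, 1, 2, 1, 0], 24),
  ([-2, -2, -2, -2, 0, 2, 0, 0, 0, 0, 0, 0, 0, 0, 2, 0, 0, 2, 0, 0, 0, 0, 0, 2], [-1, -1, 0, 0, 0, 0, -1], 37),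
  ([-2, 2, 2, 2, 0, -2, 0, 0, 0, 0, 0, 0, 0, 0, 2, 0, 0, 2, 0, 0, 0, 0, 0, 2], [1, 1, 1, 0, 1, 0, 0], 29),
  ([-2, -2, -2, 2, 0, -2, 0, 0, 0, 0, 0, 0, 0, 0, 2, 0, 0, 2, 0, 0, 0, 0, 0, 2], [-2, -1, -2, -1, -1, -1, -1], 32),
  ([-2, -2, 2, -2, 0, -2, 0, 0, 0, 0, 0, 0, 0, 0, 2, 0, 0, 2, 0, 0, 0, 0, 0, 2], [-1, -1, -1, -1, -1, -1, -1], 45),
  ([-2, 2, -2, -2, 0, -2, 0, 0, 0, 0, 0, 0, 0, 0, 2, 0, 0, 2, 0, 0, 0, 0, 0, 2], [0, 0, 1, 0, 1, 0, 0], 22),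
  ([-2, 2, 2, 2, 0, 2, 0, 0, 0, 0, 0, 0, 0, 0, -2, 0, 0, 2, 0, 0, 0, 0, 0, 2], [2, 1, 2, 1, 2, 1, 0], 18),
  ([-2, -2, -2, 2, 0, 2, 0, 0, 0, 0, 0, 0, 0, 0, -2, 0, 0, 2, 0, 0, 0, 0, 0, 2], [-1, -1, -1, 0, 0, 0, -1], 47),
  ([-2, -2, 2, -2, 0, 2, 0, 0, 0, 0, 0, 0, 0, 0, -2, 0, 0, 2, 0, 0, 0, 0, 0, 2], [0, -1, 0, 0, 0, 0, -1], 34),
  ([-2, 2, -2, -2, 0, 2, 0, 0, 0, 0, 0, 0, 0, 0, -2, 0, 0, 2, 0, 0, 0, 0, 0, 2], [1, 0, 2, 1, 2, 1, 0], 25),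
  ([-2, -2, 2, 2, 0, -2, 0, 0, 0, 0, 0, 0, 0, 0, -2, 0, 0, 2, 0, 0, 0, 0, 0, 2], [-1, -1, -2, -1, -1, -1, -1], 39),
  ([-2, 2, -2, 2, 0, -2, 0, 0, 0, 0, 0, 0, 0, 0, -2, 0, 0, 2, 0, 0, 0, 0, 0, 2], [0, 0, 0, 0, 1, 0, 0], 28),
  ([-2, 2, 2, -2, 0, -2, 0, 0, 0, 0, 0, 0, 0, 0, -2, 0, 0, 2, 0, 0, 0, 0, 0, 2], [1, 0, 1, 0, 1, 0, 0], 17),
  ([-2, -2, -2, -2, 0, -2, 0, 0, 0, 0, 0, 0, 0, 0, -2, 0, 0, 2, 0, 0, 0, 0, 0, 2], [-2, -2, -2, -1, -1, -1, -1], 44),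
  ([-2, 2, 2, 2, 0, 2, 0, 0, 0, 0, 0, 0, 0, 0, 2, 0, 0, -2, 0, 0, 0, 0, 0, 2], [1, 1, 1, 1, 1, 0, 0], 42),
  ([-2, -2, -2, 2, 0, 2, 0, 0, 0, 0, 0, 0, 0, 0, 2, 0, 0, -2, 0, 0, 0, 0, 0, 2], [-2, -1, -2, 0, -1, -1, -1], 23),
  ([-2, -2, 2, -2, 0, 2, 0, 0, 0, 0, 0, 0, 0, 0, 2, 0, 0, -2, 0, 0, 0, 0, 0, 2], [-1, -1, -1, 0, -1, -1, -1], 26),
  ([-2, 2, -2, -2, 0, 2, 0, 0, 0, 0, 0, 0, 0, 0, 2, 0, 0, -2, 0, 0, 0, 0, 0, 2], [0, 0, 1, 1, 1, 0, 0], 33),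
  ([-2, -2, 2, 2, 0, -2, 0, 0, 0, 0, 0, 0, 0, 0, 2, 0, 0, -2, 0, 0, 0, 0, 0, 2], [-2, -1, -3, -1, -2, -2, -1], 31),
  ([-2, 2, -2, 2, 0, -2, 0, 0, 0, 0, 0, 0, 0, 0, 2, 0, 0, -2, 0, 0, 0, 0, 0, 2], [-1, 0, -1, 0, 0, -1, 0], 36),
  ([-2, 2, 2, -2, 0, -2, 0, 0, 0, 0, 0, 0, 0, 0, 2, 0, 0, -2, 0, 0, 0, 0, 0, 2], [0, 0, 0, 0, 0, -1, 0], 41),
  ([-2, -2, -2, -2, 0, -2, 0, 0, 0, 0, 0, 0, 0, 0, 2, 0, 0, -2, 0, 0, 0, 0, 0, 2], [-3, -2, -3, -1, -2, -2, -1], 20),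
  ([-2, -2, 2, 2, 0, 2, 0, 0, 0, 0, 0, 0, 0, 0, -2, 0, 0, -2, 0, 0, 0, 0, 0, 2], [-1, -1, -2, 0, -1, -1, -1], 16),
  ([-2, 2, -2, 2, 0, 2, 0, 0, 0, 0, 0, 0, 0, 0, -2, 0, 0, -2, 0, 0, 0, 0, 0, 2], [0, 0, 0, 1, 1, 0, 0], 43),
  ([-2, 2, 2, -2, 0, 2, 0, 0, 0, 0, 0, 0, 0, 0, -2, 0, 0, -2, 0, 0, 0, 0, 0, 2], [1, 0, 1, 1, 1, 0, 0], 38),
  ([-2, -2, -2, -2, 0, 2, 0, 0, 0, 0, 0, 0, 0, 0, -2, 0, 0, -2, 0, 0, 0, 0, 0, 2], [-2, -2, -2, 0, -1, -1, -1], 27),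
  ([-2, 2, 2, 2, 0, -2, 0, 0, 0, 0, 0, 0, 0, 0, -2, 0, 0, -2, 0, 0, 0, 0, 0, 2], [0, 0, -1, 0, 0, -1, 0], 35),
  ([-2, -2, -2, 2, 0, -2, 0, 0, 0, 0, 0, 0, 0, 0, -2, 0, 0, -2, 0, 0, 0, 0, 0, 2], [-3, -2, -4, -1, -2, -2, -1], 30),
  ([-2, -2, 2, -2, 0, -2, 0, 0, 0, 0, 0, 0, 0, 0, -2, 0, 0, -2, 0, 0, 0, 0, 0, 2], [-2, -2, -3, -1, -2, -2, -1], 19),
  ([-2, 2, -2, -2, 0, -2, 0, 0, 0, 0, 0, 0, 0, 0, -2, 0, 0, -2, 0, 0, 0, 0, 0, 2], [-1, -1, -1, 0, 0, -1, 0], 40),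
  ([2, -2, 2, 2, 0, 2, 0, 0, 0, 0, 0, 0, 0, 0, 2, 0, 0, 2, 0, 0, 0, 0, 0, -2], [1, 1, 1, 0, 0, 1, 0], 40),
  ([2, 2, -2, 2, 0, 2, 0, 0, 0, 0, 0, 0, 0, 0, 2, 0, 0, 2, 0, 0, 0, 0, 0, -2], [2, 2, 3, 1, 2, 2, 1], 19),
  ([2, 2, 2, -2, 0, 2, 0, 0, 0, 0, 0, 0, 0, 0, 2, 0, 0, 2, 0, 0, 0, 0, 0, -2], [3, 2, 4, 1, 2, 2, 1], 30),
  ([2, -2, -2, -2, 0, 2, 0, 0, 0, 0, 0, 0, 0, 0, 2, 0, 0, 2, 0, 0, 0, 0, 0, -2], [0, 0, 1, 0, 0, 1, 0], 35),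
  ([2, 2, 2, 2, 0, -2, 0, 0, 0, 0, 0, 0, 0, 0, 2, 0, 0, 2, 0, 0, 0, 0, 0, -2], [2, 2, 2, 0, 1, 1, 1], 27),
  ([2, -2, -2, 2, 0, -2, 0, 0, 0, 0, 0, 0, 0, 0, 2, 0, 0, 2, 0, 0, 0, 0, 0, -2], [-1, 0, -1, -1, -1, 0, 0], 38),
  ([2, -2, 2, -2, 0, -2, 0, 0, 0, 0, 0, 0, 0, 0, 2, 0, 0, 2, 0, 0, 0, 0, 0, -2], [0, 0, 0, -1, -1, 0, 0], 43),
  ([2, 2, -2, -2, 0, -2, 0, 0, 0, 0, 0, 0, 0, 0, 2, 0, 0, 2, 0, 0, 0, 0, 0, -2], [1, 1, 2, 0, 1, 1, 1], 16),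
  ([2, 2, 2, 2, 0, 2, 0, 0, 0, 0, 0, 0, 0, 0, -2, 0, 0, 2, 0, 0, 0, 0, 0, -2], [3, 2, 3, 1, 2, 2, 1], 20),
  ([2, -2, -2, 2, 0, 2, 0, 0, 0, 0, 0, 0, 0, 0, -2, 0, 0, 2, 0, 0, 0, 0, 0, -2], [0, 0, 0, 0, 0, 1, 0], 41),
  ([2, -2, 2, -2, 0, 2, 0, 0, 0, 0, 0, 0, 0, 0, -2, 0, 0, 2, 0, 0, 0, 0, 0, -2], [1, 0, 1, 0, 0, 1, 0], 36),
  ([2, 2, -2, -2, 0, 2, 0, 0, 0, 0, 0, 0, 0, 0, -2, 0, 0, 2, 0, 0, 0, 0, 0, -2], [2, 1, 3, 1, 2, 2, 1], 31),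
  ([2, -2, 2, 2, 0, -2, 0, 0, 0, 0, 0, 0, 0, 0, -2, 0, 0, 2, 0, 0, 0, 0, 0, -2], [0, 0, -1, -1, -1, 0, 0], 33),
  ([2, 2, -2, 2, 0, -2, 0, 0, 0, 0, 0, 0, 0, 0, -2, 0, 0, 2, 0, 0, 0, 0, 0, -2], [1, 1, 1, 0, 1, 1, 1], 26),
  ([2, 2, 2, -2, 0, -2, 0, 0, 0, 0, 0, 0, 0, 0, -2, 0, 0, 2, 0, 0, 0, 0, 0, -2], [2, 1, 2, 0, 1, 1, 1], 23),
  ([2, -2, -2, -2, 0, -2, 0, 0, 0, 0, 0, 0, 0, 0, -2, 0, 0, 2, 0, 0, 0, 0, 0, -2], [-1, -1, -1, -1, -1, 0, 0], 42),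
  ([2, 2, 2, 2, 0, 2, 0, 0, 0, 0, 0, 0, 0, 0, 2, 0, 0, -2, 0, 0, 0, 0, 0, -2], [2, 2, 2, 1, 1, 1, 1], 44),
  ([2, -2, -2, 2, 0, 2, 0, 0, 0, 0, 0, 0, 0, 0, 2, 0, 0, -2, 0, 0, 0, 0, 0, -2], [-1, 0, -1, 0, -1, 0, 0], 17),
  ([2, -2, 2, -2, 0, 2, 0, 0, 0, 0, 0, 0, 0, 0, 2, 0, 0, -2, 0, 0, 0, 0, 0, -2], [0, 0, 0, 0, -1, 0, 0], 28),
  ([2, 2, -2, -2, 0, 2, 0, 0, 0, 0, 0, 0, 0, 0, 2, 0, 0, -2, 0, 0, 0, 0, 0, -2], [1, 1, 2, 1, 1, 1, 1], 39),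
  ([2, -2, 2, 2, 0, -2, 0, 0, 0, 0, 0, 0, 0, 0, 2, 0, 0, -2, 0, 0, 0, 0, 0, -2], [-1, 0, -2, -1, -2, -1, 0], 25),
  ([2, 2, -2, 2, 0, -2, 0, 0, 0, 0, 0, 0, 0, 0, 2, 0, 0, -2, 0, 0, 0, 0, 0, -2], [0, 1, 0, 0, 0, 0, 1], 34),
  ([2, 2, 2, -2, 0, -2, 0, 0, 0, 0, 0, 0, 0, 0, 2, 0, 0, -2, 0, 0, 0, 0, 0, -2], [1, 1, 1, 0, 0, 0, 1], 47),
  ([2, -2, -2, -2, 0, -2, 0, 0, 0, 0, 0, 0, 0, 0, 2, 0, 0, -2, 0, 0, 0, 0, 0, -2], [-2, -1, -2, -1, -2, -1, 0], 18),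
  ([2, -2, 2, 2, 0, 2, 0, 0, 0, 0, 0, 0, 0, 0, -2, 0, 0, -2, 0, 0, 0, 0, 0, -2], [0, 0, -1, 0, -1, 0, 0], 22),
  ([2, 2, -2, 2, 0, 2, 0, 0, 0, 0, 0, 0, 0, 0, -2, 0, 0, -2, 0, 0, 0, 0, 0, -2], [1, 1, 1, 1, 1, 1, 1], 45),
  ([2, 2, 2, -2, 0, 2, 0, 0, 0, 0, 0, 0, 0, 0, -2, 0, 0, -2, 0, 0, 0, 0, 0, -2], [2, 1, 2, 1, 1, 1, 1], 32),
  ([2, -2, -2, -2, 0, 2, 0, 0, 0, 0, 0, 0, 0, 0, -2, 0, 0, -2, 0, 0, 0, 0, 0, -2], [-1, -1, -1, 0, -1, 0, 0], 29),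
  ([2, 2, 2, 2, 0, -2, 0, 0, 0, 0, 0, 0, 0, 0, -2, 0, 0, -2, 0, 0, 0, 0, 0, -2], [1, 1, 0, 0, 0, 0, 1], 37),
  ([2, -2, -2, 2, 0, -2, 0, 0, 0, 0, 0, 0, 0, 0, -2, 0, 0, -2, 0, 0, 0, 0, 0, -2], [-2, -1, -3, -1, -2, -1, 0], 24),
  ([2, -2, 2, -2, 0, -2, 0, 0, 0, 0, 0, 0, 0, 0, -2, 0, 0, -2, 0, 0, 0, 0, 0, -2], [-1, -1, -2, -1, -2, -1, 0], 21),
  ([2, 2, -2, -2, 0, -2, 0, 0, 0, 0, 0, 0, 0, 0, -2, 0, 0, -2, 0, 0, 0, 0, 0, -2], [0, 0, 0, 0, 0, 0, 1], 46)]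

/-- the base -/
def baseL : List (List ℤ) := [
  [0, 0, 4, 0, 0, 0, 0, 0, 0, 0, 0, 0, 0, 0, -4, 0, 0, 0, 0, 0, 0, 0, 0, 0],
  [0, 0, 0, 4, 0, 0, 0, 0, 0, 0, 0, 0, 0, 0, 4, 0, 0, 0, 0, 0, 0, 0, 0, 0],
  [0, 0, 0, -4, 0, 0, 0, 0, 0, 0, 0, 0, 0, 0, 4, 0, 0, 0, 0, 0, 0, 0, 0, 0],
  [0, 0, 0, 0, 0, 4, 0, 0, 0, 0, 0, 0, 0, 0, 0, 0, 0, -4, 0, 0, 0, 0, 0, 0],
  [-2, 2, -2, 2, 0, -2, 0, 0, 0, 0, 0, 0, 0, 0, -2, 0, 0, 2, 0, 0, 0, 0, 0, 2],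
  [2, -2, -2, 2, 0, 2, 0, 0, 0, 0, 0, 0, 0, 0, -2, 0, 0, 2, 0, 0, 0, 0, 0, -2],
  [2, 2, -2, -2, 0, -2, 0, 0, 0, 0, 0, 0, 0, 0, -2, 0, 0, -2, 0, 0, 0, 0, 0, -2]]

/-- a symplectic family -/
def sympL : List (List ℤ) := [
  [0, 0, 4, 0, 0, 0, 0, 0, 0, 0, 0, 0, 0, 0, 4, 0, 0, 0, 0, 0, 0, 0, 0, 0],
  [0, -4, 0, 0, 0, 0, 0, 0, 0, 0, 0, 0, 0, 0, 0, 0, 0, -4, 0, 0, 0, 0, 0, 0],
  [0, 4, 0, 0, 0, 0, 0, 0, 0, 0, 0, 0, 0, 0, 0, 0, 0, -4, 0, 0, 0, 0, 0, 0],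
  [0, 0, 4, 0, 0, -4, 0, 0, 0, 0, 0, 0, 0, 0, 0, 0, 0, 0, 0, 0, 0, 0, 0, 0],
  [-2, -2, 2, 2, 0, 2, 0, 0, 0, 0, 0, 0, 0, 0, -2, 0, 0, -2, 0, 0, 0, 0, 0, 2],
  [2, 2, 2, -2, 0, 2, 0, 0, 0, 0, 0, 0, 0, 0, -2, 0, 0, -2, 0, 0, 0, 0, 0, -2]]

/-- the elements fixing the octad pointwise -/
def fixPerms : List ℕ := [
  984818244535754528103549039458486304,
  976448692869377735270425038196672544,
  961365507626256404119956257276790816,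
  981818691054096003685363657089320992,
  968708902336673183175954409307867168,
  975346028712660580592452217730074656,
  983548720921252936276249910206105632,
  963721886883755259286232606933354528,
  965128854020860192151391391390468128,
  979121071158219704299181131031480352,
  970499966350631336865513127433832480,
  966182099583441531322624363496310816,
  972512676110088067912772961567868960,
  980224387687010295957922729495201824,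
  971592882964418941354553515258775584,
  967812279691448225500382947153381408]

/-- the code words disjoint from the octad -/
def outWords : List ℕ := [0, 337856, 628112, 832080, 1161408, 1351424, 1584464, 1903248, 2141072, 2460752, 2702848, 2890176, 3216208, 3421328, 3704512, 4038912, 4202192, 4536592, 4819776, 5024896, 5350928, 5538256, 5780352, 6100032, 6337856, 6656640, 6889680, 7079696, 7409024, 7612992, 7903248, 8241104]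

/-- the octad -/
def oct : ℕ := 8536111

/-- its complement -/
def out : ℕ := 8241104

/-- membership in the octad -/
def inO (p : GolayPt) : Bool := oct.testBit (idx p)

theorem oct_facts : oct ∈ octadList ∧ out ∈ codeList ∧ oct.testBit 23 = true ∧ oct.testBit 0 = true :=
  by decide +kernel

theorem out_testBit : ∀ p : GolayPt, out.testBit (idx p) = !inO p := by decide +kernel

theorem inO_none : inO none = true ∧ inO (pt 0) = true ∧ inO (some 0) = true := by decide +kernel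

/-- inner product of coordinate lists -/
def dotL (a b : List ℤ) : ℤ := ((List.range 24).map fun j => a.getD j 0 * b.getD j 0).sum

theorem dotInt_eq_dotL (x y : GolayPt → ℤ) : dotInt x y = dotL (lOf x) (lOf y) := by
  rw [dotInt, sum_pt, dotL]
  exact congrArg List.sum (List.map_congr_left fun j hj => by
    rw [lOf_getD _ (List.mem_range.1 hj), lOf_getD _ (List.mem_range.1 hj)])

theorem dotInt_comm (x y : GolayPt → ℤ) : dotInt x y = dotInt y x :=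
  Finset.sum_congr rfl fun _ _ => mul_comm _ _

/-- the involution -/
def tEl : Co0 := monoEl (1, ⟨toSet out, toSet_mem_supports oct_facts.2.1⟩)

theorem tEl_apply (v : leechLattice) (p : GolayPt) :
    ((tEl • v : leechLattice) : GolayPt → ℤ) p =
      if inO p = true then (v : GolayPt → ℤ) p else -(v : GolayPt → ℤ) p := by
  rw [tEl, monoEl_smul]
  show (if p ∈ toSet out then -(v : GolayPt → ℤ) p else (v : GolayPt → ℤ) p) = _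
  simp only [mem_toSet, out_testBit]
  cases inO p <;> rfl

/-- supported on the octad -/
def Supp (v : leechLattice) : Prop := ∀ p, inO p = false → (v : GolayPt → ℤ) p = 0

theorem supp_iff {v : leechLattice} : Supp v ↔ tEl • v = v := by
  constructor
  · intro h
    refine Subtype.ext (funext fun p => ?_)
    rw [tEl_apply]
    split
    · rfl
    · rename_i hp; rw [h p (by simpa using hp)]; rfl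
  · intro h p hp
    have e := congrArg (fun x : leechLattice => (x : GolayPt → ℤ) p) h
    simp only [tEl_apply, hp, Bool.false_eq_true, if_false] at e
    omega

theorem v0_supp : Supp v0 := by unfold Supp; decide +kernel

theorem tEl_v0 : tEl • v0 = v0 := supp_iff.1 v0_supp

/-- the centraliser of the involution in the stabiliser of `v0` -/
def ct : Subgroup Co0 := MulAction.stabilizer Co0 v0 ⊓ Subgroup.centralizer {tEl}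

theorem mem_ct {g : Co0} : g ∈ ct ↔ g • v0 = v0 ∧ tEl * g = g * tEl := by
  simp [ct, Subgroup.mem_inf, MulAction.mem_stabilizer_iff, Subgroup.mem_centralizer_iff]

theorem supp_smul {g : Co0} (hg : g ∈ ct) {v : leechLattice} (hv : Supp v) : Supp (g • v) := by
  rw [supp_iff] at hv ⊢
  rw [← mul_smul, (mem_ct.1 hg).2, mul_smul, hv]

/-! ### Roots -/

/-- a root: short, supported on the octad, orthogonal to `v0` -/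
def Root (r : leechLattice) : Prop :=
  sqNorm (r : GolayPt → ℤ) = 32 ∧ dotInt (v0 : GolayPt → ℤ) (r : GolayPt → ℤ) = 0 ∧ Supp r

theorem root_smul {g : Co0} (hg : g ∈ ct) {r : leechLattice} (h : Root r) : Root (g • r) :=
  ⟨(coe_smul_sqNorm g r).trans h.1, by
    conv_lhs => rw [← (mem_ct.1 hg).1]
    exact (dot_preserved g.2 v0 r).trans h.2.1, supp_smul hg h.2.2⟩

/-- the indices of short vectors supported on the octad -/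
def cand : List Census.SIdx :=
  (Census.aList.filter fun k => match k with
    | .a i j _ _ => oct.testBit i && oct.testBit j
    | _ => false) ++ (Census.subs (Census.bitsOf oct)).1.map fun s => .b oct s

theorem cand_check : (cand.all fun k =>
    let l := lOf (Census.vec k)
    !decide (dotL (lOf (v0 : GolayPt → ℤ)) l = 0) || decide (l ∈ rootTab.map Prod.fst)) = true := by
  decide +kernel

theorem octad_inside : ∀ m ∈ octadList, m &&& out = 0 → m = oct := by decide +kernel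

theorem exists_cand_supp {r : leechLattice} (hn : sqNorm (r : GolayPt → ℤ) = 32) (hs : Supp r) :
    ∃ k ∈ cand, Census.vec k = (r : GolayPt → ℤ) := by
  obtain ⟨k, hk, e⟩ := Census.exists_idx r.2 hn
  refine ⟨k, ?_, e⟩
  have hz : ∀ p, inO p = false → Census.vec k p = 0 := fun p hp => by rw [e]; exact hs p hp
  simp only [Census.allList, List.mem_append] at hk
  rcases hk with (hk | hk) | hk
  · obtain ⟨i, j, s, t, rfl, hij, hj⟩ := Census.mem_aList hk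
    refine List.mem_append.2 (Or.inl (List.mem_filter.2 ⟨hk, ?_⟩))
    have key : ∀ q, q = i ∨ q = j → oct.testBit q = true := by
      intro q hq
      by_contra hcon
      have hq24 : q < 24 := by omega
      have h0 := hz (pt q) (by rw [inO, idx_pt hq24]; simpa using hcon)
      rw [Census.a_apply i j s t hij hj, idx_pt hq24] at h0
      rcases hq with rfl | rfl <;> cases s <;> cases t <;> simp [Census.sgn, hij.ne, hij.ne'] at h0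
    rw [Bool.and_eq_true]
    exact ⟨key i (Or.inl rfl), key j (Or.inr rfl)⟩
  · obtain ⟨m, s, rfl, hm, hs⟩ := Census.mem_bList hk
    have hand : m &&& out = 0 := by
      refine Nat.eq_of_testBit_eq fun q => ?_
      rw [Nat.testBit_and, Nat.zero_testBit]
      by_contra hcon
      simp only [Bool.not_eq_false, Bool.and_eq_true] at hcon
      have hq24 : q < 24 := by
        by_contra hq
        have hle : 2 ^ 24 ≤ 2 ^ q := Nat.pow_le_pow_right (by norm_num) (le_of_not_gt hq)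
        have := Nat.ge_two_pow_of_testBit hcon.2
        simp only [out] at this
        omega
      have hp : inO (pt q) = false := by
        have := out_testBit (pt q)
        rw [idx_pt hq24, hcon.2] at this
        simpa using this.symm
      have h0 := hz (pt q) hp
      simp only [Census.vec, idx_pt hq24, hcon.1, if_true] at h0
      split at h0 <;> simp at h0
    obtain rfl := octad_inside m hm hand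
    exact List.mem_append.2 (Or.inr (List.mem_map.2 ⟨s, hs, rfl⟩))
  · obtain ⟨c, j, rfl, hc, hj⟩ := Census.mem_cList hk
    exfalso
    obtain ⟨p, hp⟩ : ∃ p, inO p = false := ⟨pt 4, by decide +kernel⟩
    have h0 := hz p hp
    simp only [Census.vec] at h0
    split at h0 <;> split at h0 <;> simp at h0

theorem mem_rootTab {r : leechLattice} (h : Root r) :
    ∃ e ∈ rootTab, e.1 = lOf (r : GolayPt → ℤ) := by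
  obtain ⟨k, hk, e⟩ := exists_cand_supp h.1 h.2.2
  have hc := List.all_eq_true.1 cand_check k hk
  simp only [e, Bool.or_eq_true, Bool.not_eq_true', decide_eq_false_iff_not, decide_eq_true_eq,
    List.mem_map] at hc
  rcases hc with hc | ⟨a, ha, hae⟩
  · exact absurd (by rw [← dotInt_eq_dotL]; exact h.2.1) hc
  · exact ⟨a, ha, hae⟩

/-! ### The base and residues -/

/-- a lattice vector given by its coordinate list -/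
def mkV (l : List ℤ) (h : inLeechB (lOf (vOf l)) = true) : leechLattice :=
  ⟨vOf l, mem_leech_of_inLeechB h⟩

theorem baseL_check : ∀ k : Fin 7, inLeechB (lOf (vOf (baseL.getD k.val []))) = true := by
  decide +kernel

/-- the base -/
def bv (k : Fin 7) : leechLattice := mkV (baseL.getD k.val []) (baseL_check k)

theorem sympL_check : ∀ j : Fin 6, inLeechB (lOf (vOf (sympL.getD j.val []))) = true := by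
  decide +kernel

/-- the position in the symplectic family -/
def pos : Fin 3 ⊕ Fin 3 → Fin 6 := Sum.elim (Fin.castAdd 3) (Fin.natAdd 3)

/-- the symplectic family -/
def bs (a : Fin 3 ⊕ Fin 3) : leechLattice := mkV (sympL.getD (pos a).val []) (sympL_check _)

/-- the dual family -/
def bd (a : Fin 3 ⊕ Fin 3) : leechLattice := bs a.swap

theorem bv_check : ∀ k : Fin 7, sqNorm (bv k : GolayPt → ℤ) = 32 ∧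
    dotInt (v0 : GolayPt → ℤ) (bv k : GolayPt → ℤ) = 0 ∧
    ∀ p, inO p = false → (bv k : GolayPt → ℤ) p = 0 := by decide +kernel

theorem root_bv (k : Fin 7) : Root (bv k) := bv_check k

theorem bs_check : ∀ a, sqNorm (bs a : GolayPt → ℤ) = 32 ∧
    dotInt (v0 : GolayPt → ℤ) (bs a : GolayPt → ℤ) = 0 ∧
    ∀ p, inO p = false → (bs a : GolayPt → ℤ) p = 0 := by decide +kernel

theorem root_bs (a : Fin 3 ⊕ Fin 3) : Root (bs a) := bs_check a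

theorem root_bd (a : Fin 3 ⊕ Fin 3) : Root (bd a) := root_bs _

theorem lOf_bv : ∀ k : Fin 7, lOf (bv k : GolayPt → ℤ) = baseL.getD k.val [] := by decide +kernel

theorem lOf_bs : ∀ a, lOf (bs a : GolayPt → ℤ) = sympL.getD (pos a).val [] := by decide +kernel

/-- coordinates of the base, as a list -/
def baseAt (k : Fin 7) : List ℤ := baseL.getD k.val []

/-- coordinates of the symplectic family, as lists -/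
def bsAt (a : Fin 3 ⊕ Fin 3) : List ℤ := sympL.getD (pos a).val []

/-- residue of coordinate lists -/
def prL (x y : List ℤ) : ZMod 2 := ((dotL x y / 16 : ℤ) : ZMod 2)

/-- residue of the inner product -/
def pr (x y : leechLattice) : ZMod 2 :=
  ((dotInt (x : GolayPt → ℤ) (y : GolayPt → ℤ) / 16 : ℤ) : ZMod 2)

theorem pr_eq_prL (x y : leechLattice) :
    pr x y = prL (lOf (x : GolayPt → ℤ)) (lOf (y : GolayPt → ℤ)) := by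
  rw [pr, prL, dotInt_eq_dotL]

theorem pr_comm (x y : leechLattice) : pr x y = pr y x := by rw [pr, pr, dotInt_comm]

theorem pr_smul (g : Co0) (x y : leechLattice) : pr (g • x) (g • y) = pr x y :=
  congrArg (fun z : ℤ => ((z / 16 : ℤ) : ZMod 2)) (dot_preserved g.2 x y)

theorem rootTab_check : ∀ e ∈ rootTab,
    (∀ i < 24, e.1.getD i 0 = ∑ k : Fin 7, e.2.1.getD k.val 0 * (baseAt k).getD i 0) ∧
    (∀ k : Fin 7, dotL e.1 (baseAt k) % 16 = 0 ∧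
      prL e.1 (baseAt k) = ∑ j, prL e.1 (bsAt j.swap) * prL (bsAt j) (baseAt k)) := by
  decide +kernel

theorem exists_expand {r : leechLattice} (h : Root r) :
    ∃ c : Fin 7 → ℤ, ∀ x : GolayPt → ℤ,
      dotInt x (r : GolayPt → ℤ) = ∑ k, c k * dotInt x (bv k : GolayPt → ℤ) := by
  obtain ⟨e, he, hl⟩ := mem_rootTab h
  refine ⟨fun k => e.2.1.getD k.val 0, fun x => ?_⟩
  have hp : ∀ p, (r : GolayPt → ℤ) p = ∑ k, e.2.1.getD k.val 0 * (bv k : GolayPt → ℤ) p := by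
    intro p
    have h1 := (rootTab_check e he).1 (idx p) (idx_lt p)
    rw [hl, lOf_getD _ (idx_lt p), pt_idx] at h1
    rw [h1]
    exact Finset.sum_congr rfl fun k _ => by
      rw [baseAt, ← lOf_bv, lOf_getD _ (idx_lt p), pt_idx]
  simp only [dotInt, hp, Finset.mul_sum]
  rw [Finset.sum_comm]
  exact Finset.sum_congr rfl fun k _ => Finset.sum_congr rfl fun p _ => by ring

theorem dvd_dot_bv {r : leechLattice} (h : Root r) (k : Fin 7) :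
    (16 : ℤ) ∣ dotInt (r : GolayPt → ℤ) (bv k : GolayPt → ℤ) := by
  obtain ⟨e, he, hl⟩ := mem_rootTab h
  rw [dotInt_eq_dotL, ← hl, lOf_bv, Int.dvd_iff_emod_eq_zero]
  exact ((rootTab_check e he).2 k).1

theorem pr_expand {y r : leechLattice} (hy : Root y) {c : Fin 7 → ℤ}
    (hc : ∀ x : GolayPt → ℤ,
      dotInt x (r : GolayPt → ℤ) = ∑ k, c k * dotInt x (bv k : GolayPt → ℤ)) :
    pr y r = ∑ k, (c k : ZMod 2) * pr y (bv k) := by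
  have e : dotInt (y : GolayPt → ℤ) (r : GolayPt → ℤ) =
      16 * ∑ k, c k * (dotInt (y : GolayPt → ℤ) (bv k : GolayPt → ℤ) / 16) := by
    rw [hc, Finset.mul_sum]
    exact Finset.sum_congr rfl fun k _ => by
      rw [mul_left_comm, Int.mul_ediv_cancel' (dvd_dot_bv hy k)]
  simp only [pr]
  rw [e, Int.mul_ediv_cancel_left _ (by norm_num : (16 : ℤ) ≠ 0), Int.cast_sum]
  exact Finset.sum_congr rfl fun k _ => Int.cast_mul _ _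

/-- The residue pairing is expanded by the symplectic family. -/
theorem pr_root {y r : leechLattice} (hy : Root y) (hr : Root r) :
    pr y r = ∑ j, pr y (bd j) * pr (bs j) r := by
  obtain ⟨c, hc⟩ := exists_expand hr
  have hk : ∀ k, pr y (bv k) = ∑ j, pr y (bd j) * pr (bs j) (bv k) := fun k => by
    obtain ⟨e, he, hl⟩ := mem_rootTab hy
    have h := ((rootTab_check e he).2 k).2
    simp only [bd, pr_eq_prL, lOf_bv, lOf_bs, ← hl]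
    exact h
  rw [pr_expand hy hc]
  simp only [hk, pr_expand (root_bs _) hc, Finset.mul_sum]
  rw [Finset.sum_comm]
  exact Finset.sum_congr rfl fun j _ => Finset.sum_congr rfl fun k _ => by ring

theorem pr_neg (y r : leechLattice) (h : (16 : ℤ) ∣ dotInt (y : GolayPt → ℤ) (r : GolayPt → ℤ)) :
    pr (-y) r = pr y r := by
  have e : dotInt ((-y : leechLattice) : GolayPt → ℤ) (r : GolayPt → ℤ) =
      -dotInt (y : GolayPt → ℤ) (r : GolayPt → ℤ) := by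
    rw [NegMemClass.coe_neg]
    simp [dotInt]
  rw [pr, pr, e, Int.neg_ediv_of_dvd h, Int.cast_neg, ZMod.neg_eq_self_mod_two]

theorem dvd_dot {y r : leechLattice} (hy : Root y) (hr : Root r) :
    (16 : ℤ) ∣ dotInt (y : GolayPt → ℤ) (r : GolayPt → ℤ) := by
  obtain ⟨c, hc⟩ := exists_expand hr
  rw [hc]
  exact Finset.dvd_sum fun k _ => (dvd_dot_bv hy k).mul_left (c k)

theorem bs_bd_check : ∀ j a, prL (bsAt j) (bsAt (Sum.swap a)) = if a = j then 1 else 0 := by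
  decide +kernel

theorem pr_bs_bd (j a : Fin 3 ⊕ Fin 3) : pr (bs j) (bd a) = if a = j then 1 else 0 := by
  simp only [bd, pr_eq_prL, lOf_bs]
  exact bs_bd_check j a

end CfsgLib.Spor.Co2Invol
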