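import Cfsg.Agent.Lib.Spor.Co2Invol.Base
import Cfsg.Agent.Lib.Spor.OctadAlt

/-!
The centraliser of the involution acts on the roots as a subgroup of `Sp₆(2)`; the kernel fixes
the octad pointwise.
-/

set_option autoImplicit false
set_option Elab.async false
set_option maxRecDepth 100000
set_option maxHeartbeats 0

namespace CfsgLib.Spor.Co2Invol

open Cfsg
open CfsgLib.Spor
open CfsgLib.Spor.ShortPairs (v0)
open CfsgLib.ThreeTransp.CoReduce (bigE)
open Matrix

/-- the standard vectors of the octad from `v0` and the base -/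
def octSpan : List (ℕ × ℤ × List ℤ) := [
  (0, 1, [1, 1, 1, 1, 0, 0, 1, 1]),
  (1, 1, [0, 4, 3, 5, 2, 4, 2, 2]),
  (2, 1, [0, 2, 1, 1, 0, 0, 0, 0]),
  (3, 1, [0, 0, 1, -1, 0, 0, 0, 0]),
  (5, 1, [0, 2, 1, 3, 2, 2, 2, 0]),
  (14, 1, [0, 0, 1, 1, 0, 0, 0, 0]),
  (17, 1, [0, 2, 1, 3, 0, 2, 2, 0]),
  (23, 1, [1, -1, -1, -1, 0, 0, -1, -1])]

/-- the matrix of an element on the residues -/
def mat (g : ↥ct) : Matrix (Fin 3 ⊕ Fin 3) (Fin 3 ⊕ Fin 3) (ZMod 2) :=
  fun a j => pr ((g : Co0) • bs j) (bd a)

theorem pr_adj (g : Co0) (x y : leechLattice) : pr (g • x) y = pr x (g⁻¹ • y) := by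
  conv_lhs => rw [← smul_inv_smul g y]
  exact pr_smul g x _

/-- The residues of an image. -/
theorem pr_image {g : Co0} (hg : g ∈ ct) {y : leechLattice} (hy : Root y) (a : Fin 3 ⊕ Fin 3) :
    pr (g • y) (bd a) = ∑ c, pr (g • bs c) (bd a) * pr y (bd c) := by
  rw [pr_adj, pr_root hy (root_smul (inv_mem hg) (root_bd a))]
  exact Finset.sum_congr rfl fun c _ => by rw [pr_adj g (bs c), mul_comm]

theorem mat_mul (g h : ↥ct) : mat (g * h) = mat g * mat h := by
  ext a j
  rw [Matrix.mul_apply]
  show pr (((g : Co0) * h) • bs j) (bd a) = _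
  rw [mul_smul]
  exact pr_image g.2 (root_smul h.2 (root_bs j)) a

theorem mat_one : mat 1 = 1 := by
  ext a j
  show pr ((1 : Co0) • bs j) (bd a) = _
  rw [one_smul, pr_bs_bd, Matrix.one_apply]

theorem J_apply (a b : Fin 3 ⊕ Fin 3) :
    Matrix.J (Fin 3) (ZMod 2) a b = if a = b.swap then 1 else 0 := by
  rcases a with a | a <;> rcases b with b | b <;>
    simp [Matrix.J, Matrix.one_apply]

theorem mat_symp (g : ↥ct) : mat g ∈ Matrix.symplecticGroup (Fin 3) (ZMod 2) := by
  rw [SymplecticGroup.mem_iff']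
  ext j k
  simp only [Matrix.mul_apply, Matrix.transpose_apply, J_apply, mul_ite, mul_one, mul_zero,
    Finset.sum_ite_eq', Finset.mem_univ, if_true]
  have h := pr_root (root_smul g.2 (root_bs k)) (root_smul g.2 (root_bs j))
  rw [pr_smul] at h
  have hjk : pr (bs k) (bs j) = if j = k.swap then 1 else 0 := by
    have := pr_bs_bd k j.swap
    rw [bd, Sum.swap_swap] at this
    rw [this]
    rcases j with j | j <;> rcases k with k | k <;> simp
  rw [hjk] at h
  rw [h]
  refine Finset.sum_congr rfl fun b _ => ?_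
  show pr ((g : Co0) • bs j) (bd b.swap) * pr ((g : Co0) • bs k) (bd b) = _
  rw [bd, Sum.swap_swap, pr_comm (bs b), mul_comm]

/-- the action on residues -/
def phi : ↥ct →* ↥(Matrix.symplecticGroup (Fin 3) (ZMod 2)) where
  toFun g := ⟨mat g, mat_symp g⟩
  map_one' := Subtype.ext mat_one
  map_mul' g h := Subtype.ext (mat_mul g h)

/-! ### The kernel -/

theorem key_check : ∀ e ∈ rootTab, e.2.2 < 64 ∧
    ∀ a, prL e.1 (bsAt (Sum.swap a)) = if e.2.2.testBit (pos a).val then 1 else 0 := by
  decide +kernel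

theorem key_sep : (rootTab.all fun e => rootTab.all fun e' =>
    !Nat.beq e.2.2 e'.2.2 || decide (e'.1 = e.1) || decide (e'.1 = e.1.map fun x => -x)) = true := by
  decide +kernel

theorem lOf_neg (x : GolayPt → ℤ) : lOf (-x) = (lOf x).map fun a => -a := by
  simp [lOf, List.map_map, Function.comp_def]

theorem pos_surj : ∀ i : Fin 6, ∃ a, pos a = i := by decide

theorem eq_pm_of_pr {r r' : leechLattice} (hr : Root r) (hr' : Root r')
    (h : ∀ a, pr r' (bd a) = pr r (bd a)) : r' = r ∨ r' = -r := by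
  obtain ⟨e, he, hl⟩ := mem_rootTab hr
  obtain ⟨e', he', hl'⟩ := mem_rootTab hr'
  have hk : e.2.2 = e'.2.2 := by
    refine Nat.eq_of_testBit_eq fun i => ?_
    by_cases hi : i < 6
    · obtain ⟨a, ha⟩ := pos_surj ⟨i, hi⟩
      have hh := h a
      simp only [bd, pr_eq_prL, lOf_bs, ← hl, ← hl'] at hh
      have h1 := (key_check e he).2 a
      have h2 := (key_check e' he').2 a
      rw [← bsAt] at hh
      rw [hh, h1, ha] at h2
      revert h2
      cases e.2.2.testBit i <;> cases e'.2.2.testBit i <;> decide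
    · have hp : 64 ≤ 2 ^ i := le_trans (by norm_num)
        (Nat.pow_le_pow_right (by norm_num : 0 < 2) (le_of_not_gt hi))
      rw [Nat.testBit_lt_two_pow (lt_of_lt_of_le (key_check e he).1 hp),
        Nat.testBit_lt_two_pow (lt_of_lt_of_le (key_check e' he').1 hp)]
  have := List.all_eq_true.1 (List.all_eq_true.1 key_sep e he) e' he'
  simp only [hk, Nat.beq_refl, Bool.not_true, Bool.false_or, Bool.or_eq_true,
    decide_eq_true_eq] at this
  rcases this with hh | hh
  · left; exact Subtype.ext (lOf_inj (by rw [← hl, ← hl', hh]))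
  · right
    exact Subtype.ext (lOf_inj (by rw [NegMemClass.coe_neg, lOf_neg, ← hl, ← hl', hh]))

theorem sign_of_ker {g : ↥ct} (hg : phi g = 1) {r : leechLattice} (hr : Root r) :
    (g : Co0) • r = r ∨ (g : Co0) • r = -r := by
  refine eq_pm_of_pr hr (root_smul g.2 hr) fun a => ?_
  have hm : ∀ c, pr ((g : Co0) • bs c) (bd a) = if a = c then 1 else 0 := fun c => by
    have : mat g = 1 := congrArg Subtype.val hg
    have h2 := congrFun (congrFun this a) c
    rw [Matrix.one_apply] at h2
    exact h2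
  rw [pr_image g.2 hr a]
  simp [hm]

theorem bv_edges : ∀ q ∈ [((0 : Fin 7), (1 : Fin 7)), (0, 2), (1, 6), (2, 4), (2, 5), (4, 3)],
    dotL (baseAt q.1) (baseAt q.2) ≠ 0 := by decide +kernel

theorem coherent {g : Co0} {x y : leechLattice}
    (hxy : dotInt (x : GolayPt → ℤ) (y : GolayPt → ℤ) ≠ 0) (e : ℤ) (he : e = 1 ∨ e = -1)
    (hx : g • x = e • x) (hy : g • y = y ∨ g • y = -y) : g • y = e • y := by
  have h := CfsgLib.ThreeTransp.CoReduce.dot_preserved g.2 x y
  change dotInt ((g • x : leechLattice) : GolayPt → ℤ) ((g • y : leechLattice) : GolayPt → ℤ) = _ at h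
  rw [hx] at h
  rcases he with rfl | rfl <;> rcases hy with hy | hy <;> rw [hy] at h ⊢
  · simp
  · exfalso
    simp [dotInt] at h hxy
    omega
  · exfalso
    simp [dotInt] at h hxy
    omega
  · simp

theorem sign_const {g : Co0} (h : ∀ k, g • bv k = bv k ∨ g • bv k = -bv k) :
    ∃ e : ℤ, (e = 1 ∨ e = -1) ∧ ∀ k, g • bv k = e • bv k := by
  obtain ⟨e, he, h0⟩ : ∃ e : ℤ, (e = 1 ∨ e = -1) ∧ g • bv 0 = e • bv 0 := by
    rcases h 0 with h0 | h0
    · exact ⟨1, Or.inl rfl, by rw [h0, one_smul]⟩
    · exact ⟨-1, Or.inr rfl, by rw [h0, neg_smul, one_smul]⟩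
  have hedge : ∀ a b : Fin 7, (a, b) ∈ [((0 : Fin 7), (1 : Fin 7)), (0, 2), (1, 6), (2, 4), (2, 5),
      (4, 3)] → g • bv a = e • bv a → g • bv b = e • bv b := fun a b hab ha =>
    coherent (by rw [dotInt_eq_dotL, lOf_bv, lOf_bv]; exact bv_edges _ hab) e he ha (h b)
  have h1 := hedge 0 1 (by simp) h0
  have h2 := hedge 0 2 (by simp) h0
  have h6 := hedge 1 6 (by simp) h1
  have h4 := hedge 2 4 (by simp) h2
  have h5 := hedge 2 5 (by simp) h2
  have h3 := hedge 4 3 (by simp) h4
  refine ⟨e, he, fun k => ?_⟩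
  fin_cases k <;> assumption

theorem octSpan_check : ∀ p : GolayPt, inO p = true → ∃ e ∈ octSpan, e.1 = idx p ∧
    ∀ q : GolayPt, (if q = p then 8 else 0) =
      e.2.2.getD 0 0 * (v0 : GolayPt → ℤ) q +
        ∑ k : Fin 7, e.2.2.getD (k.val + 1) 0 * (baseAt k).getD (idx q) 0 := by
  decide +kernel

theorem octSpan_coeff : ∀ e ∈ octSpan,
    e.2.2.getD 0 0 = if e.1 = 0 ∨ e.1 = 23 then 1 else 0 := by decide +kernel

/-- The images of the standard vectors of the octad under an element acting as a sign. -/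
theorem image_bigE {g : Co0} (hv : g • v0 = v0) (e : ℤ) (h : ∀ k, g • bv k = e • bv k)
    {p : GolayPt} (hp : inO p = true) :
    g • bigE p = e • bigE p + (if idx p = 0 ∨ idx p = 23 then 1 - e else 0) • v0 := by
  obtain ⟨t, ht, hidx, hsum⟩ := octSpan_check p hp
  have ha := octSpan_coeff t ht
  rw [hidx] at ha
  have hE : bigE p = t.2.2.getD 0 0 • v0 + ∑ k : Fin 7, t.2.2.getD (k.val + 1) 0 • bv k := by
    refine Subtype.ext (funext fun q => ?_)
    simp only [AddSubgroup.coe_add, AddSubgroup.coe_zsmul, AddSubgroup.val_finsetSum,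
      Pi.add_apply, Pi.smul_apply, Finset.sum_apply, smul_eq_mul, bigE_coe, Pi.single_apply]
    rw [hsum q]
    refine congrArg _ (Finset.sum_congr rfl fun k _ => ?_)
    rw [baseAt, ← lOf_bv, lOf_getD _ (idx_lt q), pt_idx]
  have hg : g • bigE p = t.2.2.getD 0 0 • v0 + e • ∑ k : Fin 7, t.2.2.getD (k.val + 1) 0 • bv k := by
    show co0Hom g (bigE p) = _
    rw [hE, map_add, map_zsmul, map_sum, Finset.smul_sum]
    rw [show co0Hom g v0 = v0 from hv]
    refine congrArg _ (Finset.sum_congr rfl fun k _ => ?_)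
    rw [map_zsmul, show co0Hom g (bv k) = e • bv k from h k, smul_comm]
  rw [hg, hE, ha]
  split <;> simp only [one_smul, zero_smul, smul_add, zero_add, add_zero, sub_smul] <;> abel

theorem v0_eq : (2 : ℤ) • v0 - bigE none = bigE (some 0) ∧
    (2 : ℤ) • v0 - bigE (some 0) = bigE none := by
  constructor <;> refine Subtype.ext (lOf_inj ?_) <;> decide +kernel

theorem single_target {σ : Equiv.Perm GolayPt} {c : Finset GolayPt} {i j : GolayPt} {b : ℤ}
    (hb : b ≠ 0) (h : signedPerm σ c (Pi.single i 8) = Pi.single j b) : σ i = j := by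
  rw [signedPerm_single] at h
  have h' := congrFun h j
  by_contra hne
  rw [Pi.single_eq_same, Pi.single_eq_of_ne (Ne.symm hne)] at h'
  exact hb h'.symm

/-- No element exchanges the two special points and fixes the rest of the octad. -/
theorem no_swap {σ : Equiv.Perm GolayPt} (hσ : σ ∈ M24) (h1 : σ none = some 0)
    (h2 : σ (some 0) = none)
    (h3 : ∀ p, inO p = true → p ≠ none → p ≠ some 0 → σ p = p) : False := by
  have ho : toSet oct ∈ octads := by
    rw [mem_octads, mask_toSet (by norm_num [oct])]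
    exact oct_facts.1
  have hmem : ∀ p, p ∈ toSet oct ↔ inO p = true := fun p => mem_toSet
  have hinv : ∀ p, inO (σ p) = inO p := by
    intro p
    have hin : ∀ q, inO q = true → inO (σ q) = true := fun q hq => by
      by_cases a : q = none
      · subst a; rw [h1]; exact inO_none.2.2
      by_cases b : q = some 0
      · subst b; rw [h2]; exact inO_none.1
      rw [h3 q hq a b]; exact hq
    by_cases hp : inO p = true
    · rw [hp, hin p hp]
    · have : inO (σ p) = false := by
        by_contra hcon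
        simp only [Bool.not_eq_false] at hcon
        have hσσ : σ (σ (σ p)) = σ p := by
          by_cases a : σ p = none
          · rw [a, h1, h2]
          by_cases b : σ p = some 0
          · rw [b, h2, h1]
          rw [h3 _ hcon a b, h3 _ hcon a b]
        have e := σ.injective hσσ
        have : inO (σ (σ p)) = true := hin _ hcon
        rw [e] at this
        exact hp this
      rw [this]; simpa using hp
  have h' : ∀ x, σ x ∈ toSet oct ↔ x ∈ toSet oct := fun x => by rw [hmem, hmem, hinv]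
  have halt : σ.subtypePerm h' ∈ (alternatingGroup ↥(toSet oct) : Set (Equiv.Perm ↥(toSet oct))) := by
    rw [← induced_eq_alternating ho]
    exact ⟨σ, hσ, h', rfl⟩
  have hswap : σ.subtypePerm h' = Equiv.swap ⟨none, (hmem _).2 inO_none.1⟩
      ⟨some 0, (hmem _).2 inO_none.2.2⟩ := by
    refine Equiv.ext fun x => Subtype.ext ?_
    obtain ⟨x, hx⟩ := x
    show σ x = _
    by_cases a : x = none
    · subst a; rw [h1, Equiv.swap_apply_left]
    by_cases b : x = some 0
    · subst b; rw [h2, Equiv.swap_apply_right]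
    rw [h3 x ((hmem x).1 hx) a b, Equiv.swap_apply_of_ne_of_ne (by simpa using a) (by simpa using b)]
  rw [SetLike.mem_coe, Equiv.Perm.mem_alternatingGroup, hswap, Equiv.Perm.sign_swap (by simp)]
    at halt
  exact absurd halt (by decide)

/-- the elements fixing the standard vectors of the octad -/
def octFix : Subgroup Co0 := ct ⊓ fixingSubgroup Co0 {v | ∃ p, inO p = true ∧ v = bigE p}

theorem fix_bigE {g : Co0} (hg : g ∈ octFix) {p : GolayPt} (hp : inO p = true) :
    g • bigE p = bigE p :=
  (mem_fixingSubgroup_iff _).1 hg.2 _ ⟨p, hp, rfl⟩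

theorem ker_le {g : ↥ct} (hg : phi g = 1) : (g : Co0) ∈ octFix := by
  obtain ⟨e, he, hk⟩ := sign_const (g := (g : Co0)) fun k => sign_of_ker hg (root_bv k)
  have hv := (mem_ct.1 g.2).1
  rcases he with rfl | rfl
  · refine ⟨g.2, (mem_fixingSubgroup_iff _).2 ?_⟩
    rintro _ ⟨p, hp, rfl⟩
    rw [image_bigE hv 1 hk hp]
    simp
  · exfalso
    have h0 : (g : Co0) • bigE none = bigE (some 0) := by
      rw [image_bigE hv (-1) hk inO_none.1, if_pos (Or.inr (by decide +kernel)), ← v0_eq.1]
      simp [sub_eq_add_neg, add_comm]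
    have h1 : (g : Co0) • bigE (some 0) = bigE none := by
      rw [image_bigE hv (-1) hk inO_none.2.2, if_pos (Or.inl (by decide +kernel)), ← v0_eq.2]
      simp [sub_eq_add_neg, add_comm]
    have h2 : ∀ p, inO p = true → p ≠ none → p ≠ some 0 → (g : Co0) • bigE p = -bigE p := by
      intro p hp a b
      have hidx : ¬ (idx p = 0 ∨ idx p = 23) := by
        rintro (h | h)
        · exact b (idx_injective (h.trans (by decide)))
        · exact a (idx_injective (h.trans (by decide)))
      rw [image_bigE hv (-1) hk hp, if_neg hidx]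
      simp
    obtain ⟨m, hm⟩ := exists_monoEl (g := (g : Co0))
      (by rw [show eTop = bigE none from rfl, h0]; exact bigE_mem_stdCross _)
    have hs : ∀ p, signedPerm (m.1 : Equiv.Perm GolayPt) m.2 (Pi.single p 8) =
        (((g : Co0) • bigE p : leechLattice) : GolayPt → ℤ) := fun p => by
      rw [← hm, monoEl_smul]; rfl
    refine no_swap m.1.2 (single_target (c := (m.2 : Finset GolayPt)) (b := 8) (by norm_num) ?_)
      (single_target (c := (m.2 : Finset GolayPt)) (b := 8) (by norm_num) ?_)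
      fun p hp a b => single_target (c := (m.2 : Finset GolayPt)) (b := -8) (by norm_num) ?_
    · rw [hs, h0]; rfl
    · rw [hs, h1]; rfl
    · rw [hs, h2 p hp a b, NegMemClass.coe_neg, bigE_coe, Pi.single_neg]

theorem octFix_fix_supp {g : Co0} (hg : g ∈ octFix) {v : leechLattice} (hv : Supp v) : g • v = v := by
  obtain ⟨m, hm⟩ := exists_monoEl (g := g) (by
    rw [show eTop = bigE none from rfl, fix_bigE hg inO_none.1]; exact bigE_mem_stdCross _)
  have hp : ∀ p, inO p = true →
      (m.1 : Equiv.Perm GolayPt) p = p ∧ p ∉ (m.2 : Finset GolayPt) := by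
    intro p hp
    have h := congrArg Subtype.val (fix_bigE hg hp)
    rw [← hm, monoEl_smul] at h
    have h1 := single_target (b := 8) (by norm_num) h
    rw [bigE_coe, signedPerm_single, h1] at h
    refine ⟨h1, fun hc => ?_⟩
    have := congrFun h p
    simp [hc] at this
  refine Subtype.ext (funext fun q => ?_)
  rw [← hm, monoEl_smul]
  show (if q ∈ (m.2 : Finset GolayPt) then -(v : GolayPt → ℤ) ((m.1 : Equiv.Perm GolayPt).symm q)
    else (v : GolayPt → ℤ) ((m.1 : Equiv.Perm GolayPt).symm q)) = _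
  by_cases hq : inO q = true
  · rw [if_neg (hp q hq).2, (Equiv.symm_apply_eq _).2 (hp q hq).1.symm]
  · have hq' : inO q = false := by simpa using hq
    have hsq : inO ((m.1 : Equiv.Perm GolayPt).symm q) = false := by
      by_contra hcon
      simp only [Bool.not_eq_false] at hcon
      have e := (hp _ hcon).1
      rw [Equiv.apply_symm_apply] at e
      rw [← e, hq'] at hcon
      exact Bool.noConfusion hcon
    rw [hv q hq', hv _ hsq]
    simp

theorem mem_ker_iff (g : ↥ct) : phi g = 1 ↔ (g : Co0) ∈ octFix := by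
  refine ⟨ker_le, fun hg => Subtype.ext ?_⟩
  show mat g = 1
  rw [← mat_one]
  ext a j
  show pr ((g : Co0) • bs j) (bd a) = pr ((1 : Co0) • bs j) (bd a)
  rw [octFix_fix_supp hg (root_bs j).2.2, one_smul]

end CfsgLib.Spor.Co2Invol
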